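import Groth.Agent.S5257
import Groth.Agent.Sga3B.BcPts
import Groth.Agent.Sga3B.IsoFam
import Groth.Agent.Fdesc.BaseField
import Mathlib.AlgebraicGeometry.ResidueField
import Mathlib.AlgebraicGeometry.Morphisms.Affine

/-!
# Families of homomorphisms out of a group of multiplicative type: conjugacy is open and closed

`H` of multiplicative type and of finite type, `G` smooth and affine over `B`.  Families of
homomorphisms `H ⊗ X ⟶ G`.

* `IsConj θ₁ θ₂ g`: the two families over `Y` are conjugate by the `Y`-point `g` of `G`;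
* `exists_transp`: the transporter of two families is a smooth scheme over the parameter space;
* `isClopen_range`: if `B` is the spectrum of a field, the set of parameters at which a family is
  conjugate to a constant one is open and closed.
-/

set_option autoImplicit false
open CategoryTheory MonoidalCategory CartesianMonoidalCategory MonObj GrpObj AlgebraicGeometry
universe u

namespace K979.ConjFam

open Groth.Agent.Sga3B.BcPts Groth.Agent.Sga3B.IsoFam

section gen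

variable {C : Type*} [Category C] [CartesianMonoidalCategory C] {H G Y : C} [GrpObj G]

/-- The families `θ₁, θ₂ : H ⊗ Y ⟶ G` are conjugate by the point `g` of `G` over `Y`. -/
def IsConj (θ₁ θ₂ : H ⊗ Y ⟶ G) (g : Y ⟶ G) : Prop :=
  (snd H Y ≫ g) * θ₁ * (snd H Y ≫ g)⁻¹ = θ₂

lemma isConj_iff {θ₁ θ₂ : H ⊗ Y ⟶ G} {g : Y ⟶ G} : IsConj θ₁ θ₂ g ↔
    ∀ (Z : C) (z : Z ⟶ Y) (h : Z ⟶ H),
      (z ≫ g) * (lift h z ≫ θ₁) * (z ≫ g)⁻¹ = lift h z ≫ θ₂ := by
  constructor
  · rintro h Z z x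
    rw [← h, MonObj.comp_mul, MonObj.comp_mul, GrpObj.comp_inv, lift_snd_assoc]
  · intro h
    have := h _ (snd H Y) (fst H Y)
    simpa [IsConj] using this

lemma IsConj.pull {θ₁ θ₂ : H ⊗ Y ⟶ G} {g : Y ⟶ G} (h : IsConj θ₁ θ₂ g) {Z : C} (z : Z ⟶ Y) :
    IsConj (H ◁ z ≫ θ₁) (H ◁ z ≫ θ₂) (z ≫ g) := by
  rw [IsConj, ← h, MonObj.comp_mul, MonObj.comp_mul, GrpObj.comp_inv, whiskerLeft_snd_assoc]

lemma IsConj.trans {θ₁ θ₂ θ₃ : H ⊗ Y ⟶ G} {g g' : Y ⟶ G} (h : IsConj θ₁ θ₂ g)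
    (h' : IsConj θ₂ θ₃ g') : IsConj θ₁ θ₃ (g' * g) := by
  rw [IsConj, ← h', ← h, MonObj.comp_mul, _root_.mul_inv_rev]
  simp only [_root_.mul_assoc]

lemma IsConj.symm {θ₁ θ₂ : H ⊗ Y ⟶ G} {g : Y ⟶ G} (h : IsConj θ₁ θ₂ g) :
    IsConj θ₂ θ₁ g⁻¹ := by
  rw [IsConj, ← h, GrpObj.comp_inv, _root_.inv_inv]
  simp only [_root_.mul_assoc, inv_mul_cancel_left, inv_mul_cancel, _root_.mul_one]

lemma isConj_one (θ : H ⊗ Y ⟶ G) : IsConj θ θ 1 := by
  rw [IsConj, MonObj.comp_one, inv_one, _root_.one_mul, _root_.mul_one]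

end gen

variable {B : Scheme.{u}} {H G : Over B} [GrpObj H] [GrpObj G]

omit [GrpObj H] in
omit [GrpObj G] in
lemma isAffineHom_snd [IsAffineHom G.hom] {X : Scheme.{u}} (f : X ⟶ B) : IsAffineHom (Red.bc f G).hom :=
  MorphismProperty.of_isPullback (IsPullback.of_hasPullback G.hom f) ‹_›

/-- **The transporter of two families**: for families of homomorphisms `ψ₁, ψ₂` from a group of
multiplicative type to a smooth affine group, parametrised by `X`, there is a smooth morphism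
`π : T ⟶ X` such that `y : Y ⟶ X` lifts to `T` iff the pullbacks of the families to `Y` are
conjugate. -/
theorem exists_transp [Smooth G.hom] [IsAffineHom G.hom]
    (hbc : ∀ {X : Scheme.{u}} (f : X ⟶ B), SGA3x.IsMultTypeFT (Red.bc f H))
    {X : Over B} {ψ₁ ψ₂ : H ⊗ X ⟶ G}
    (h₁ : AutFam.IsHomFamily H G ψ₁) (h₂ : AutFam.IsHomFamily H G ψ₂) :
    ∃ (T : Scheme.{u}) (π : T ⟶ X.left), Smooth π ∧ ∀ (Y : Over B) (y : Y ⟶ X),
      (∃ t : Y.left ⟶ T, t ≫ π = y.left) ↔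
        ∃ g : Y ⟶ G, IsConj (H ◁ y ≫ ψ₁) (H ◁ y ≫ ψ₂) g := by
  have := isMonHom_unfam h₁
  have := isMonHom_unfam h₂
  obtain ⟨T, j, -, hT, hj⟩ := Groth.Agent.S5257.result (Red.bc X.hom H) (Red.bc X.hom G)
    (hbc X.hom) (inferInstanceAs (Smooth (Limits.pullback.snd G.hom X.hom)))
    (isAffineHom_snd X.hom) (unfam ψ₁) (unfam ψ₂)
  have key : ∀ (Z : Over X.left) (g p q : Z ⟶ Red.bc X.hom G),
      (g * p * g⁻¹ = q) ↔ (bcEquiv X.hom Z G).symm g * (bcEquiv X.hom Z G).symm p *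
        ((bcEquiv X.hom Z G).symm g)⁻¹ = (bcEquiv X.hom Z G).symm q := by
    intro Z g p q
    rw [← (bcEquiv X.hom Z G).symm.injective.eq_iff]
    have e1 : (bcEquiv X.hom Z G).symm (g * p * g⁻¹) = (bcEquiv X.hom Z G).symm g *
        (bcEquiv X.hom Z G).symm p * ((bcEquiv X.hom Z G).symm g)⁻¹ := by
      have := (bcMulEquiv X.hom Z G).symm.map_mul (g * p) g⁻¹
      have h2 := (bcMulEquiv X.hom Z G).symm.map_mul g p
      have h3 := (bcMulEquiv X.hom Z G).symm.map_inv g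
      rw [h2, h3] at this
      exact this
    rw [e1]
  refine ⟨T.left, T.hom, hT, fun Y y => ?_⟩
  -- the object of `Over X.left`
  let X' : Over B := Over.mk X.hom
  constructor
  · rintro ⟨t, ht⟩
    let Y' : Over X.left := Over.mk y.left
    let t' : Y' ⟶ T := Over.homMk t ht
    have hc := (hj Y' (t' ≫ j)).mp ⟨t', rfl⟩
    let e : (Over.map X.hom).obj Y' ≅ Y := overIso (f := X.hom) (T := Y) (y : Y ⟶ Over.mk X.hom)
    refine ⟨e.inv ≫ (bcEquiv X.hom Y' G).symm (t' ≫ j), isConj_iff.2 fun Z z h => ?_⟩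
    let Z' : Over X.left := Over.mk (z ≫ y).left
    let eZ : (Over.map X.hom).obj Z' ≅ Z :=
      overIso (f := X.hom) (T := Z) ((z ≫ y : Z ⟶ X) : Z ⟶ Over.mk X.hom)
    let x : Z' ⟶ Y' := Over.homMk z.left (by simp [Z', Y'])
    have hc' := hc Z' x (bcEquiv X.hom Z' H (eZ.hom ≫ h))
    rw [key, comp_unfam, comp_unfam, Equiv.symm_apply_apply, Equiv.symm_apply_apply,
      Equiv.symm_apply_apply, comp_bcEquiv_symm] at hc'
    have e1 : (Over.map X.hom).map x = eZ.hom ≫ z ≫ e.inv := by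
      ext1
      simp [eZ, e, x, overIso]
      exact (Category.id_comp _).symm
    have e2 : lift (eZ.hom ≫ h) (st Z') = eZ.hom ≫ lift h (z ≫ y) := by
      rw [comp_lift]
      congr 1
    rw [e1, e2] at hc'
    rw [← cancel_epi eZ.hom]
    simp only [MonObj.comp_mul, GrpObj.comp_inv, Category.assoc] at hc' ⊢
    rw [← Category.assoc (lift h z) (H ◁ y), lift_whiskerLeft, ← Category.assoc (lift h z) (H ◁ y),
      lift_whiskerLeft]
    exact hc'
  · rintro ⟨g, hg⟩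
    let Y' : Over X.left := Over.mk y.left
    let e : (Over.map X.hom).obj Y' ≅ Y := overIso (f := X.hom) (T := Y) (y : Y ⟶ Over.mk X.hom)
    have hc := (hj Y' (bcEquiv X.hom Y' G (e.hom ≫ g))).mpr (by
      intro Z x h
      rw [key, comp_unfam, comp_unfam, Equiv.symm_apply_apply, Equiv.symm_apply_apply,
        comp_bcEquiv_symm, Equiv.symm_apply_apply]
      have h3 := isConj_iff.1 hg _ ((Over.map X.hom).map x ≫ e.hom) ((bcEquiv X.hom Z H).symm h)
      rw [← Category.assoc (lift _ _) (H ◁ y), lift_whiskerLeft, ← Category.assoc (lift _ _) (H ◁ y),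
        lift_whiskerLeft] at h3
      have e1 : ((Over.map X.hom).map x ≫ e.hom) ≫ y = st Z := by
        ext1
        simp [e, st, overIso]
        exact Over.w x
      rw [e1] at h3
      simpa only [Category.assoc] using h3)
    obtain ⟨t, -⟩ := hc
    exact ⟨t.left, Over.w t⟩

/-- **Conjugacy to a constant family is open and closed** (over a field). -/
theorem isClopen_range {k : Type u} [Field k] {H G : Over (Spec (CommRingCat.of k))} [GrpObj H] [GrpObj G]
    [Smooth G.hom] [IsAffineHom G.hom]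
    (hbc : ∀ {X : Scheme.{u}} (f : X ⟶ Spec (CommRingCat.of k)), SGA3x.IsMultTypeFT (Red.bc f H))
    {X : Over (Spec (CommRingCat.of k))} {ψ₁ ψ : H ⊗ X ⟶ G}
    (hc : ∀ (Y : Over (Spec (CommRingCat.of k))) (y y' : Y ⟶ X), H ◁ y ≫ ψ₁ = H ◁ y' ≫ ψ₁)
    (hψ : AutFam.IsHomFamily H G ψ) {T : Scheme.{u}} (π : T ⟶ X.left) [Smooth π]
    (hT : ∀ (Y : Over (Spec (CommRingCat.of k))) (y : Y ⟶ X),
      (∃ t : Y.left ⟶ T, t ≫ π = y.left) ↔
        ∃ g : Y ⟶ G, IsConj (H ◁ y ≫ ψ₁) (H ◁ y ≫ ψ) g) :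
    IsClopen (Set.range π) := by
  refine ⟨⟨?_⟩, π.isOpenMap.isOpen_range⟩
  rw [isOpen_iff_forall_mem_open]
  intro x hx
  let i₀ := X.left.fromSpecResidueField x
  let P := Limits.pullback (i₀ ≫ X.hom) X.hom
  let p₁ : P ⟶ _ := Limits.pullback.fst (i₀ ≫ X.hom) X.hom
  let p₂ : P ⟶ _ := Limits.pullback.snd (i₀ ≫ X.hom) X.hom
  have hcond : p₁ ≫ i₀ ≫ X.hom = p₂ ≫ X.hom := Limits.pullback.condition
  let Pb : Over (Spec (CommRingCat.of k)) := Over.mk (p₂ ≫ X.hom)
  let a₁ : Pb ⟶ X := Over.homMk (p₁ ≫ i₀) (by simpa [Pb] using hcond)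
  let a₂ : Pb ⟶ X := Over.homMk p₂ rfl
  obtain ⟨T', π', hπ', hT'⟩ := exists_transp hbc (isHomFamily_pull hψ a₁) (isHomFamily_pull hψ a₂)
  have : UniversallyOpen (i₀ ≫ X.hom) := Groth.Agent.Fdesc.BaseField.universallyOpen_of_field _
  have : UniversallyOpen p₂ := UniversallyOpen.snd _ _
  refine ⟨Set.range (π' ≫ p₂), ?_, (π' ≫ p₂).isOpenMap.isOpen_range, ?_⟩
  · rintro _ ⟨t', rfl⟩ ⟨t, ht⟩
    apply hx
    obtain ⟨w, hw1, hw2⟩ := Scheme.Pullback.exists_preimage_pullback (f := π' ≫ p₂) (g := π) t' t ht.symm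
    let W := Limits.pullback (π' ≫ p₂) π
    let Y : Over (Spec (CommRingCat.of k)) :=
      Over.mk (Limits.pullback.fst (π' ≫ p₂) π ≫ π' ≫ p₂ ≫ X.hom)
    let y' : Y ⟶ Pb := Over.homMk (Limits.pullback.fst (π' ≫ p₂) π ≫ π') (by simp [Y, Pb])
    let y'' : Y ⟶ X := Over.homMk (Limits.pullback.snd (π' ≫ p₂) π ≫ π) (by
      change (Limits.pullback.snd (π' ≫ p₂) π ≫ π) ≫ X.hom =
        Limits.pullback.fst (π' ≫ p₂) π ≫ π' ≫ p₂ ≫ X.hom
      rw [← Limits.pullback.condition]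
      simp only [Category.assoc])
    have hy : y'' = y' ≫ a₂ := by
      ext1
      change Limits.pullback.snd (π' ≫ p₂) π ≫ π = (Limits.pullback.fst (π' ≫ p₂) π ≫ π') ≫ p₂
      rw [← Limits.pullback.condition, Category.assoc]
    obtain ⟨g', hg'⟩ := (hT' Y y').mp ⟨Limits.pullback.fst (π' ≫ p₂) π, rfl⟩
    obtain ⟨g'', hg''⟩ := (hT Y y'').mp ⟨Limits.pullback.snd (π' ≫ p₂) π, rfl⟩
    have h1 : H ◁ y'' ≫ ψ = H ◁ y' ≫ H ◁ a₂ ≫ ψ := by
      rw [hy, MonoidalCategory.whiskerLeft_comp, Category.assoc]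
    rw [h1] at hg''
    have h2 := hg''.trans hg'.symm
    rw [hc Y y'' (y' ≫ a₁)] at h2
    obtain ⟨t₀, ht₀⟩ := (hT Y (y' ≫ a₁)).mpr ⟨_, by
      rw [MonoidalCategory.whiskerLeft_comp (f := y') (g := a₁), Category.assoc (H ◁ y') (H ◁ a₁) ψ,
        ← MonoidalCategory.whiskerLeft_comp (f := y') (g := a₁)]
      exact h2⟩
    refine ⟨t₀ w, ?_⟩
    have h3 : (t₀ ≫ π) w = ((y' ≫ a₁).left) w := by rw [ht₀]
    rw [Scheme.Hom.comp_apply] at h3
    rw [h3]
    have h4 : (y' ≫ a₁).left = (Limits.pullback.fst (π' ≫ p₂) π ≫ π' ≫ p₁) ≫ i₀ := by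
      change (Limits.pullback.fst (π' ≫ p₂) π ≫ π') ≫ p₁ ≫ i₀ = _
      simp only [Category.assoc]
    rw [h4, Scheme.Hom.comp_apply]
    exact Scheme.fromSpecResidueField_apply x _
  · let Y : Over (Spec (CommRingCat.of k)) := Over.mk (i₀ ≫ X.hom)
    let y : Y ⟶ Pb := Over.homMk (Limits.pullback.lift (𝟙 _) i₀ (by simp)) (by
      change Limits.pullback.lift (𝟙 _) i₀ _ ≫ p₂ ≫ X.hom = i₀ ≫ X.hom
      rw [Limits.pullback.lift_snd_assoc])
    have hy : y ≫ a₁ = y ≫ a₂ := by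
      ext1
      change Limits.pullback.lift (𝟙 _) i₀ _ ≫ p₁ ≫ i₀ = Limits.pullback.lift (𝟙 _) i₀ _ ≫ p₂
      rw [Limits.pullback.lift_fst_assoc, Limits.pullback.lift_snd, Category.id_comp]
    obtain ⟨t, ht⟩ := (hT' Y y).mpr ⟨1, by
      rw [← Category.assoc, ← Category.assoc, ← MonoidalCategory.whiskerLeft_comp,
        ← MonoidalCategory.whiskerLeft_comp, hy]
      exact isConj_one _⟩
    have h0 : Nonempty (Spec (X.left.residueField x)) := inferInstance
    obtain ⟨z⟩ := h0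
    refine ⟨t z, ?_⟩
    rw [← Scheme.Hom.comp_apply, ← Category.assoc, ht]
    change (Limits.pullback.lift (𝟙 _) i₀ _ ≫ p₂) z = x
    rw [Limits.pullback.lift_snd]
    exact Scheme.fromSpecResidueField_apply x _

section dict

variable {B S : Scheme.{u}} {f : S ⟶ B} {H G : Over B}

/-- The value of a morphism of base changes at a point in terms of the associated family. -/
theorem symm_comp_fam (φ : Red.bc f H ⟶ Red.bc f G) {Z : Over S} (h : Z ⟶ Red.bc f H) :
    (bcEquiv f Z G).symm (h ≫ φ) = lift ((bcEquiv f Z H).symm h) (st (T := Over.mk f) Z) ≫ fam φ := by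
  have e1 : (overIso (st (T := Over.mk f) Z)).hom = 𝟙 ((Over.map f).obj Z) := by
    ext1
    rfl
  have e2 : (overIso (st (T := Over.mk f) Z)).inv = 𝟙 ((Over.map f).obj Z) := by
    ext1
    rfl
  rw [lift_fam, ev, e1, e2]
  erw [Category.id_comp, Category.id_comp]
  erw [Equiv.apply_symm_apply]
  rfl

theorem conj_iff [GrpObj G] (φ φ' : Red.bc f H ⟶ Red.bc f G) {Y : Over S} (g : Y ⟶ Red.bc f G) :
    (snd (Red.bc f H) Y ≫ g) * (fst _ _ ≫ φ) * (snd (Red.bc f H) Y ≫ g)⁻¹ = fst (Red.bc f H) Y ≫ φ' ↔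
      IsConj (H ◁ (st (T := Over.mk f) Y) ≫ fam φ) (H ◁ (st (T := Over.mk f) Y) ≫ fam φ')
        ((bcEquiv f Y G).symm g) := by
  have key : ∀ (Z : Over S) (g p q : Z ⟶ Red.bc f G),
      (g * p * g⁻¹ = q) ↔ (bcEquiv f Z G).symm g * (bcEquiv f Z G).symm p *
        ((bcEquiv f Z G).symm g)⁻¹ = (bcEquiv f Z G).symm q := by
    intro Z g p q
    rw [← (bcEquiv f Z G).symm.injective.eq_iff]
    have e1 : (bcEquiv f Z G).symm (g * p * g⁻¹) = (bcEquiv f Z G).symm g *
        (bcEquiv f Z G).symm p * ((bcEquiv f Z G).symm g)⁻¹ := by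
      have := (bcMulEquiv f Z G).symm.map_mul (g * p) g⁻¹
      have h2 := (bcMulEquiv f Z G).symm.map_mul g p
      have h3 := (bcMulEquiv f Z G).symm.map_inv g
      rw [h2, h3] at this
      exact this
    rw [e1]
  have hpt : ∀ (Z : Over S) (x : Z ⟶ Y) (h : Z ⟶ Red.bc f H),
      ((x ≫ g) * (h ≫ φ) * (x ≫ g)⁻¹ = h ≫ φ') ↔
      ((Over.map f).map x ≫ (bcEquiv f Y G).symm g) *
        (lift ((bcEquiv f Z H).symm h) (st (T := Over.mk f) Z) ≫ fam φ) *
        ((Over.map f).map x ≫ (bcEquiv f Y G).symm g)⁻¹ =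
        lift ((bcEquiv f Z H).symm h) (st (T := Over.mk f) Z) ≫ fam φ' := by
    intro Z x h
    rw [key, symm_comp_fam, symm_comp_fam, comp_bcEquiv_symm]
  constructor
  · intro h0
    rw [isConj_iff]
    intro Z z h
    let Z' : Over S := Over.mk (z ≫ st (T := Over.mk f) Y).left
    let eZ : (Over.map f).obj Z' ≅ Z := overIso (z ≫ st (T := Over.mk f) Y)
    let x : Z' ⟶ Y := Over.homMk z.left (by simp [Z', st])
    have h1 : (x ≫ g) * (bcEquiv f Z' H (eZ.hom ≫ h) ≫ φ) * (x ≫ g)⁻¹ =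
        bcEquiv f Z' H (eZ.hom ≫ h) ≫ φ' := by
      have := congrArg (fun w => lift (bcEquiv f Z' H (eZ.hom ≫ h)) x ≫ w) h0
      simpa only [MonObj.comp_mul, GrpObj.comp_inv, lift_fst_assoc, lift_snd_assoc] using this
    rw [hpt, Equiv.symm_apply_apply] at h1
    have e1 : (Over.map f).map x = eZ.hom ≫ z := by
      ext1
      exact (Category.id_comp _).symm
    have e2 : st (T := Over.mk f) Z' = eZ.hom ≫ z ≫ st (T := Over.mk f) Y := by
      ext1
      exact (Category.id_comp _).symm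
    have e3 : lift (eZ.hom ≫ h) (st (T := Over.mk f) Z') =
        eZ.hom ≫ lift h (z ≫ st (T := Over.mk f) Y) := by
      rw [comp_lift, e2]
    rw [e1, e3] at h1
    rw [← cancel_epi eZ.hom]
    simp only [MonObj.comp_mul, GrpObj.comp_inv, Category.assoc] at h1 ⊢
    rw [← Category.assoc (lift h z) (H ◁ _), lift_whiskerLeft, ← Category.assoc (lift h z) (H ◁ _),
      lift_whiskerLeft]
    exact h1
  · intro h0
    rw [hpt]
    have h1 := isConj_iff.1 h0 _ ((Over.map f).map (snd (Red.bc f H) Y))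
      ((bcEquiv f _ H).symm (fst (Red.bc f H) Y))
    rw [← Category.assoc (lift _ _) (H ◁ _), lift_whiskerLeft, ← Category.assoc (lift _ _) (H ◁ _),
      lift_whiskerLeft] at h1
    have e1 : (Over.map f).map (snd (Red.bc f H) Y) ≫ st (T := Over.mk f) Y =
        st (T := Over.mk f) (Red.bc f H ⊗ Y) := by
      ext1
      exact Over.w (snd (Red.bc f H) Y)
    rw [e1] at h1
    exact h1

/-- The family of a base changed morphism is constant. -/
theorem fam_pullback (lam : H ⟶ G) : fam ((Over.pullback f).map lam) = fst H (Over.mk f) ≫ lam := by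
  rw [fam, ev, ← bcEquiv_comp, Equiv.symm_apply_apply, Category.assoc, Iso.inv_hom_id_assoc]

end dict

end K979.ConjFam
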