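import Groth.Agent.Instab.K979.Top2
import Groth.Prelude.Def_W4c6instabfans3FanCvx
import Mathlib.Topology.UnitInterval

/-!
# Formal fans: segments in rational simplices and convexity
-/

set_option autoImplicit false

universe u

open CategoryTheory Opposite Instab

namespace K979.Fan

open Instab.Fan

variable {F : Fan.{u}}

/-- Positive combinations of points of the punctured orthant. -/
def ocomb {n : ICone} (v w : Orth n) (t : unitInterval) : Orth n :=
  ⟨(1 - (t : ℝ)) • v.1 + (t : ℝ) • w.1,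
    fun i => add_nonneg (mul_nonneg (sub_nonneg.mpr t.2.2) (v.2.1 i)) (mul_nonneg t.2.1 (w.2.1 i)), by
      intro h
      have h1 : ∀ i, (1 - (t : ℝ)) * v.1 i = 0 ∧ (t : ℝ) * w.1 i = 0 := fun i => by
        have h2 : (1 - (t : ℝ)) * v.1 i + (t : ℝ) * w.1 i = 0 := congrFun h i
        have h3 := mul_nonneg (sub_nonneg.mpr t.2.2) (v.2.1 i)
        have h4 := mul_nonneg t.2.1 (w.2.1 i)
        exact ⟨by linarith, by linarith⟩
      by_cases ht : (t : ℝ) = 0
      · refine v.2.2 (funext fun i => ?_)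
        have := (h1 i).1
        rw [ht] at this
        simpa using this
      · refine w.2.2 (funext fun i => ?_)
        exact (mul_eq_zero.mp (h1 i).2).resolve_left ht⟩

theorem ocomb_val {n : ICone} (v w : Orth n) (t : unitInterval) :
    (ocomb v w t).1 = (1 - (t : ℝ)) • v.1 + (t : ℝ) • w.1 := rfl

@[simp] theorem ocomb_zero {n : ICone} (v w : Orth n) : ocomb v w 0 = v :=
  Subtype.ext (by rw [ocomb_val]; simp)

@[simp] theorem ocomb_one {n : ICone} (v w : Orth n) : ocomb v w 1 = w :=
  Subtype.ext (by rw [ocomb_val]; simp)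

theorem continuous_ocomb {n : ICone} (v w : Orth n) : Continuous (ocomb v w) := by
  rw [(isInducing_val n).continuous_iff]
  exact ((continuous_const.sub continuous_subtype_val).smul continuous_const).add
    (continuous_subtype_val.smul continuous_const)

/-- Points of a realizable set lie in cells contained in the set. -/
theorem IsRealizable.exists_cell {U : Set (P F)} (hU : IsRealizable U) {x : P F} (hx : x ∈ U) :
    ∃ (n : ICone) (ξ : F.obj (op n)) (v : Orth n), x = P.mk ξ v ∧ ∀ w, P.mk ξ w ∈ U := by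
  obtain ⟨S, rfl⟩ := hU
  obtain ⟨a, rfl⟩ := hx
  obtain ⟨n, ⟨ξ, hξ⟩, v, rfl⟩ := P_ind a
  exact ⟨n, ξ, v, rfl, fun w => ⟨P.mk (⟨ξ, hξ⟩ : S.toFunctor.obj (op n)) w, rfl⟩⟩

/-- Rational points are dense in a realizable set. -/
theorem IsRealizable.exists_rational {U : Set (P F)} (hU : IsRealizable U) (W : Set U)
    (hW : IsOpen W) (hne : W.Nonempty) : ∃ x ∈ W, (x : P F).IsRational := by
  obtain ⟨⟨x, hxU⟩, hx⟩ := hne
  obtain ⟨n, ξ, v, rfl, hξ⟩ := IsRealizable.exists_cell hU hxU
  have hc : Continuous (fun w : Orth n => (⟨P.mk ξ w, hξ w⟩ : U)) :=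
    (continuous_mk ξ).subtype_mk _
  obtain ⟨w, hw, φ, hφ⟩ := exists_rational_ray _ (hW.preimage hc) ⟨v, hx⟩
  exact ⟨_, hw, isRational_mk_of_ray ξ w φ hφ⟩

theorem basis_ne {c : ℝ} : (Orth.basis two 1).1 ≠ c • (Orth.basis two 0).1 := by
  intro h
  have h1 : (1 : ℝ) = c * (if (1 : Fin 2) = 0 then (1 : ℝ) else 0) := congrFun h (1 : Fin 2)
  simp at h1

/-- The segment between two points of a simplex mapping to `U` maps to `U`, if `U` is locally
convex. -/
theorem IsLocallyConvex.ocomb_mem {U : Set (P F)} (hU : IsLocallyConvex U) {n : ICone}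
    (ξ : F.obj (op n)) (v w : Orth n) (hv : P.mk ξ v ∈ U) (hw : P.mk ξ w ∈ U) (t : unitInterval) :
    P.mk ξ (ocomb v w t) ∈ U := by
  rcases t.2.1.eq_or_lt with h0 | h0
  · have : t = 0 := Subtype.ext h0.symm
    rw [this, ocomb_zero]; exact hv
  rcases t.2.2.eq_or_lt with h1 | h1
  · have : t = 1 := Subtype.ext h1
    rw [this, ocomb_one]; exact hw
  exact hU n ξ v _ w hv hw ⟨1 - t, t, by linarith, h0, ocomb_val v w t⟩

/-- Near the start of a path from a local maximum there is a parameter in the open unit interval at which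
the value does not exceed the maximum. -/
theorem exists_param {X Γ : Type*} [TopologicalSpace X] [LinearOrder Γ] {Φ : X → Γ} {x : X}
    (hx : IsLocalMax Φ x) (γ : unitInterval → X) (hγ : Continuous γ) (h0 : γ 0 = x) :
    ∃ t : unitInterval, 0 < (t : ℝ) ∧ (t : ℝ) < 1 ∧ Φ (γ t) ≤ Φ x := by
  have h1 : ∀ᶠ t in nhds (0 : unitInterval), Φ (γ t) ≤ Φ x := by
    have := hγ.tendsto 0
    rw [h0] at this
    exact this.eventually hx
  obtain ⟨ε, hε, hball⟩ := Metric.eventually_nhds_iff.mp h1
  let s : ℝ := min (ε / 2) (1 / 2)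
  have hs : 0 < s := lt_min (by linarith) (by norm_num)
  have hs1 : s < 1 := (min_le_right _ _).trans_lt (by norm_num)
  refine ⟨⟨s, hs.le, hs1.le⟩, hs, hs1, hball ?_⟩
  rw [Subtype.dist_eq, Real.dist_eq]
  change |s - 0| < ε
  rw [sub_zero, abs_of_pos hs]
  exact (min_le_left _ _).trans_lt (by linarith)

end K979.Fan
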