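import Mathlib.LinearAlgebra.Basis.VectorSpace
import Mathlib.LinearAlgebra.FiniteDimensional.Lemmas
import Mathlib.Topology.Instances.Rat
import Mathlib.Topology.Order.Basic
import Mathlib.Topology.Algebra.Order.Archimedean
import Mathlib.Topology.Algebra.Monoid
import Mathlib.Topology.Instances.Real.Lemmas
import Mathlib.Data.Rat.Lemmas
import Mathlib.LinearAlgebra.LinearIndependent.Lemmas

/-!
# Rational approximation of nonnegative real vectors, keeping all rational linear relations

`K979.Rat.exists_linear_pos`: a `ℚ`-linear functional `ℝ → ℚ` positive on finitely many positive reals.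
`K979.Rat.exists_int_approx`: a nonnegative real vector has an integral nonnegative vector with the same
support satisfying all the integral linear relations of the real vector.
`K979.Rat.exists_cone_decomp`: a nonzero nonnegative real vector is a positive combination of linearly
independent nonnegative integral vectors satisfying all its integral linear relations.
-/

set_option autoImplicit false

namespace K979.Rat

open Finset

/-- There is a `ℚ`-linear functional on `ℝ` with values in `ℚ` which is positive on a given finite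
family of positive reals. -/
theorem exists_linear_pos {ι : Type*} [Finite ι] (x : ι → ℝ) :
    ∃ L : ℝ →ₗ[ℚ] ℚ, ∀ i, 0 < x i → 0 < L (x i) := by
  classical
  have := Fintype.ofFinite ι
  let V : Submodule ℚ ℝ := Submodule.span ℚ (Set.range x)
  have : FiniteDimensional ℚ V := FiniteDimensional.span_of_finite ℚ (Set.finite_range x)
  let b := Module.finBasis ℚ V
  let d := Module.finrank ℚ V
  let xv : ι → V := fun i => ⟨x i, Submodule.subset_span ⟨i, rfl⟩⟩
  have hx : ∀ i, x i = ∑ j, ((b.repr (xv i) j : ℚ) : ℝ) * (b j : ℝ) := by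
    intro i
    have h := b.sum_repr (xv i)
    have h2 := congrArg (fun v : V => (v : ℝ)) h
    simp only [Submodule.coe_sum, Submodule.coe_smul] at h2
    rw [show ((xv i : V) : ℝ) = x i from rfl] at h2
    rw [← h2]
    refine Finset.sum_congr rfl fun j _ => ?_
    rw [Rat.smul_def]
  let U : Set (Fin d → ℝ) := {e | ∀ i, 0 < x i → 0 < ∑ j, ((b.repr (xv i) j : ℚ) : ℝ) * e j}
  have hU : IsOpen U := by
    have : U = ⋂ i, {e | 0 < x i → 0 < ∑ j, ((b.repr (xv i) j : ℚ) : ℝ) * e j} := by
      ext e; simp [U]
    rw [this]
    refine isOpen_iInter_of_finite fun i => ?_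
    by_cases hi : 0 < x i
    · simp only [hi, true_imp_iff]
      exact isOpen_lt continuous_const (by fun_prop)
    · simp [hi]
  have hne : (fun j => (b j : ℝ)) ∈ U := by
    intro i hi
    have h := hx i
    show 0 < ∑ j, ((b.repr (xv i) j : ℚ) : ℝ) * (b j : ℝ)
    rw [← h]
    exact hi
  have hd : DenseRange (fun q : Fin d → ℚ => fun j => ((q j : ℚ) : ℝ)) :=
    DenseRange.piMap (fun _ => Rat.denseRange_cast)
  obtain ⟨q, hq⟩ := hd.exists_mem_open hU ⟨_, hne⟩
  obtain ⟨L, hL⟩ := LinearMap.exists_extend (b.constr ℚ q : V →ₗ[ℚ] ℚ)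
  refine ⟨L, fun i hi => ?_⟩
  have h1 : L (x i) = b.constr ℚ q (xv i) := by
    rw [← hL]; rfl
  have h2 : b.constr ℚ q (xv i) = ∑ j, b.repr (xv i) j * q j := by
    rw [Module.Basis.constr_apply_fintype]
    simp [Module.Basis.equivFun_apply]
  have h3 := hq i hi
  rw [h1, h2]
  have : (0 : ℝ) < ((∑ j, b.repr (xv i) j * q j : ℚ) : ℝ) := by
    push_cast
    exact h3
  exact_mod_cast this

/-- Clearing denominators for a finite family of rationals. -/
theorem exists_common_denom {ι : Type*} [Finite ι] (z : ι → ℚ) :
    ∃ (N : ℕ) (w : ι → ℤ), 0 < N ∧ ∀ i, (w i : ℚ) = N * z i := by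
  classical
  have := Fintype.ofFinite ι
  refine ⟨∏ i, (z i).den, fun i => (z i).num * ∏ j ∈ Finset.univ.erase i, ((z j).den : ℤ),
    Finset.prod_pos fun i _ => (z i).pos, fun i => ?_⟩
  rw [← Finset.mul_prod_erase Finset.univ (fun i => (z i).den) (Finset.mem_univ i)]
  push_cast
  have h := Rat.mul_den_eq_num (z i)
  rw [← h]
  ring

/-- A real vector with nonnegative entries has an integral companion with the same support which
satisfies all its integral linear relations. -/
theorem exists_int_approx {ι : Type*} [Fintype ι] (x : ι → ℝ) (hx : ∀ i, 0 ≤ x i) :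
    ∃ z : ι → ℤ, (∀ i, 0 ≤ z i) ∧ (∀ i, 0 < z i ↔ 0 < x i) ∧
      ∀ c : ι → ℤ, ∑ i, (c i : ℝ) * x i = 0 → ∑ i, c i * z i = 0 := by
  obtain ⟨L, hL⟩ := exists_linear_pos x
  obtain ⟨N, w, hN, hw⟩ := exists_common_denom (fun i => L (x i))
  have hN' : (0 : ℚ) < N := by exact_mod_cast hN
  have h0 : ∀ i, x i = 0 → w i = 0 := by
    intro i hi
    have := hw i
    rw [hi, map_zero, mul_zero] at this
    exact_mod_cast this
  have h1 : ∀ i, 0 < x i → 0 < w i := by
    intro i hi
    have h := hw i
    have h2 : (0 : ℚ) < w i := by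
      rw [h]
      exact mul_pos hN' (hL i hi)
    exact_mod_cast h2
  refine ⟨w, fun i => ?_, fun i => ⟨fun h => ?_, h1 i⟩, fun c hc => ?_⟩
  · rcases (hx i).eq_or_lt with h | h
    · rw [h0 i h.symm]
    · exact (h1 i h).le
  · rcases (hx i).eq_or_lt with h' | h'
    · rw [h0 i h'.symm] at h; exact absurd h (lt_irrefl _)
    · exact h'
  · have h2 : (((∑ i, c i * w i : ℤ)) : ℚ) = 0 := by
      push_cast
      have : ∀ i, (c i : ℚ) * (w i : ℚ) = N * L ((c i : ℝ) * x i) := by
        intro i
        rw [hw i]
        have h3 : ((c i : ℝ) * x i) = (c i : ℚ) • x i := by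
          rw [Rat.smul_def]; push_cast; ring
        rw [h3, map_smul, smul_eq_mul]
        ring
      rw [Finset.sum_congr rfl fun i _ => this i, ← Finset.mul_sum, ← map_sum, hc, map_zero, mul_zero]
    exact_mod_cast h2

/-- A nonnegative real vector is a positive combination of linearly independent nonnegative integral
vectors satisfying all its integral linear relations. -/
theorem exists_cone_decomp' {ι : Type*} [Fintype ι] (m : ℕ) :
    ∀ (x : ι → ℝ) (_ : ∀ i, 0 ≤ x i) (_ : (Finset.univ.filter fun i => x i ≠ 0).card ≤ m),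
    ∃ (k : ℕ) (z : Fin k → ι → ℤ) (t : Fin k → ℝ), (∀ l i, 0 ≤ z l i) ∧ LinearIndependent ℤ z ∧
      (∀ l, 0 < t l) ∧ (∀ i, x i = ∑ l, t l * z l i) ∧
      (∀ c : ι → ℤ, ∑ i, (c i : ℝ) * x i = 0 → ∀ l, ∑ i, c i * z l i = 0) := by
  classical
  induction m with
  | zero =>
    intro x hx hm
    have hx0 : ∀ i, x i = 0 := by
      intro i
      by_contra h
      have : i ∈ Finset.univ.filter fun i => x i ≠ 0 := by simp [h]
      have := Finset.card_pos.mpr ⟨i, this⟩
      omega
    refine ⟨0, Fin.elim0, Fin.elim0, fun l => l.elim0, linearIndependent_empty_type, fun l => l.elim0,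
      fun i => by simp [hx0 i], fun c _ l => l.elim0⟩
  | succ m ih =>
    intro x hx hm
    by_cases hx0 : ∀ i, x i = 0
    · refine ⟨0, Fin.elim0, Fin.elim0, fun l => l.elim0, linearIndependent_empty_type, fun l => l.elim0,
        fun i => by simp [hx0 i], fun c _ l => l.elim0⟩
    · push Not at hx0
      obtain ⟨i₁, hi₁⟩ := hx0
      obtain ⟨z₀, hz₀, hz₀s, hz₀c⟩ := exists_int_approx x hx
      let s := Finset.univ.filter fun i => x i ≠ 0
      have hs : s.Nonempty := ⟨i₁, by simp [s, hi₁]⟩
      obtain ⟨i₀, hi₀, hmin⟩ := s.exists_min_image (fun i => x i / (z₀ i : ℝ)) hs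
      have hxi₀ : 0 < x i₀ := lt_of_le_of_ne (hx i₀) (Ne.symm (by simpa [s] using hi₀))
      have hzi₀ : (0 : ℝ) < z₀ i₀ := by exact_mod_cast (hz₀s i₀).mpr hxi₀
      let t₀ : ℝ := x i₀ / (z₀ i₀ : ℝ)
      have ht₀ : 0 < t₀ := div_pos hxi₀ hzi₀
      let x' : ι → ℝ := fun i => x i - t₀ * z₀ i
      have hx' : ∀ i, 0 ≤ x' i := by
        intro i
        rcases (hx i).eq_or_lt with h | h
        · have : z₀ i = 0 := by
            have h1 := hz₀ i
            have h2 : ¬ 0 < z₀ i := fun h3 => by
              have := (hz₀s i).mp h3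
              rw [← h] at this
              exact lt_irrefl _ this
            omega
          simp [x', this, ← h]
        · have hi : i ∈ s := by simp [s, h.ne']
          have hzi : (0 : ℝ) < z₀ i := by exact_mod_cast (hz₀s i).mpr h
          have := hmin i hi
          rw [le_div_iff₀ hzi] at this
          simp only [x', t₀]
          linarith
      have hx'i₀ : x' i₀ = 0 := by
        simp only [x', t₀]
        field_simp
        ring
      have hx'c : ∀ c : ι → ℤ, ∑ i, (c i : ℝ) * x i = 0 → ∑ i, (c i : ℝ) * x' i = 0 := by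
        intro c hc
        have h1 := hz₀c c hc
        have h2 : ∑ i, (c i : ℝ) * (z₀ i : ℝ) = 0 := by exact_mod_cast h1
        have : ∀ i, (c i : ℝ) * x' i = (c i : ℝ) * x i - t₀ * ((c i : ℝ) * (z₀ i : ℝ)) := by
          intro i; simp only [x']; ring
        rw [Finset.sum_congr rfl fun i _ => this i, Finset.sum_sub_distrib, ← Finset.mul_sum, hc, h2]
        simp
      have hcard : (Finset.univ.filter fun i => x' i ≠ 0).card ≤ m := by
        have hsub : (Finset.univ.filter fun i => x' i ≠ 0) ⊂ s := by
          rw [Finset.ssubset_iff_of_subset]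
          · exact ⟨i₀, hi₀, by simp [hx'i₀]⟩
          · intro i hi
            simp only [Finset.mem_filter, Finset.mem_univ, true_and, s] at hi ⊢
            intro h
            apply hi
            have : z₀ i = 0 := by
              have h1 := hz₀ i
              have h2 : ¬ 0 < z₀ i := fun h3 => by
                have := (hz₀s i).mp h3
                rw [h] at this
                exact lt_irrefl _ this
              omega
            simp [x', h, this]
        have := Finset.card_lt_card hsub
        have h3 : s.card ≤ m + 1 := hm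
        omega
      obtain ⟨k, z, t, hz, hli, ht, hsum, hrel⟩ := ih x' hx' hcard
      have hzi₀' : ∀ l, z l i₀ = 0 := by
        intro l
        have := hrel (Pi.single i₀ 1) (by
          rw [Finset.sum_eq_single i₀]
          · simp [hx'i₀]
          · intro b _ hb; simp [Pi.single_eq_of_ne hb]
          · simp) l
        rw [Finset.sum_eq_single i₀] at this
        · simpa using this
        · intro b _ hb; simp [Pi.single_eq_of_ne hb]
        · simp
      refine ⟨k + 1, Fin.cons z₀ z, Fin.cons t₀ t, ?_, ?_, ?_, ?_, ?_⟩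
      · intro l
        refine Fin.cases ?_ (fun l => ?_) l
        · simpa using hz₀
        · simpa using hz l
      · refine LinearIndependent.finCons' z₀ z hli ?_
        intro c y hymem hy
        have hyi : ∀ w ∈ Submodule.span ℤ (Set.range z), w i₀ = 0 := by
          intro w hw
          induction hw using Submodule.span_induction with
          | mem w hw => obtain ⟨l, rfl⟩ := hw; exact hzi₀' l
          | zero => rfl
          | add a b _ _ ha hb => simp [ha, hb]
          | smul a b _ hb => simp [hb]
        have h1 := congrFun hy i₀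
        simp only [Pi.add_apply, Pi.smul_apply, smul_eq_mul, Pi.zero_apply, hyi _ hymem, add_zero,
          mul_eq_zero] at h1
        rcases h1 with h1 | h1
        · exact h1
        · exfalso
          rw [h1] at hzi₀
          simp at hzi₀
      · intro l
        refine Fin.cases ?_ (fun l => ?_) l
        · simpa using ht₀
        · simpa using ht l
      · intro i
        rw [Fin.sum_univ_succ]
        simp only [Fin.cons_zero, Fin.cons_succ]
        rw [← hsum i]
        simp [x']
      · intro c hc l
        refine Fin.cases ?_ (fun l => ?_) l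
        · simpa using hz₀c c hc
        · simpa using hrel c (hx'c c hc) l

/-- A nonzero nonnegative real vector is a positive combination of linearly independent nonnegative
integral vectors (at least one) satisfying all its integral linear relations. -/
theorem exists_cone_decomp {ι : Type*} [Fintype ι] (x : ι → ℝ) (hx : ∀ i, 0 ≤ x i) (hx0 : x ≠ 0) :
    ∃ (k : ℕ+) (z : Fin k → ι → ℤ) (t : Fin k → ℝ), (∀ l i, 0 ≤ z l i) ∧ LinearIndependent ℤ z ∧
      (∀ l, 0 < t l) ∧ (∀ i, x i = ∑ l, t l * z l i) ∧
      (∀ c : ι → ℤ, ∑ i, (c i : ℝ) * x i = 0 → ∀ l, ∑ i, c i * z l i = 0) := by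
  classical
  obtain ⟨k, z, t, h1, h2, h3, h4, h5⟩ := exists_cone_decomp' _ x hx le_rfl
  have hk : 0 < k := by
    rcases Nat.eq_zero_or_pos k with rfl | h
    · exfalso
      apply hx0
      funext i
      rw [h4 i]
      simp
    · exact h
  exact ⟨⟨k, hk⟩, z, t, h1, h2, h3, h4, h5⟩

/-- An integral matrix (family of columns) with no integral kernel has no real kernel. -/
theorem eq_zero_of_forall_sum_eq_zero {ι κ : Type*} [Fintype ι] (a : κ → ι → ℤ)
    (ha : ∀ z : ι → ℤ, (∀ j, ∑ i, a j i * z i = 0) → z = 0)
    (x : ι → ℝ) (hx : ∀ j, ∑ i, (a j i : ℝ) * x i = 0) : x = 0 := by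
  by_contra hne
  obtain ⟨i₀, hi₀⟩ : ∃ i, x i ≠ 0 := by
    by_contra h
    push Not at h
    exact hne (funext h)
  obtain ⟨L, hL⟩ := exists_linear_pos (fun i => |x i|)
  have hLne : L (x i₀) ≠ 0 := by
    have h := hL i₀ (abs_pos.mpr hi₀)
    rcases abs_choice (x i₀) with h' | h'
    · simp only [h'] at h; exact h.ne'
    · simp only [h', map_neg] at h
      intro h0
      rw [h0] at h
      simp at h
  obtain ⟨N, w, hN, hw⟩ := exists_common_denom (fun i => L (x i))
  have hwz : w = 0 := by
    refine ha w fun j => ?_
    have h2 : (((∑ i, a j i * w i : ℤ)) : ℚ) = 0 := by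
      push_cast
      have : ∀ i, (a j i : ℚ) * (w i : ℚ) = N * L ((a j i : ℝ) * x i) := by
        intro i
        rw [hw i]
        have h3 : ((a j i : ℝ) * x i) = (a j i : ℚ) • x i := by
          rw [Rat.smul_def]; push_cast; ring
        rw [h3, map_smul, smul_eq_mul]
        ring
      rw [Finset.sum_congr rfl fun i _ => this i, ← Finset.mul_sum, ← map_sum, hx j, map_zero, mul_zero]
    exact_mod_cast h2
  have := hw i₀
  rw [hwz] at this
  simp only [Pi.zero_apply, Int.cast_zero] at this
  have hN' : (N : ℚ) ≠ 0 := by exact_mod_cast hN.ne'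
  rcases mul_eq_zero.mp this.symm with h | h
  · exact hN' h
  · exact hLne h

end K979.Rat
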