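import Groth.Prelude.Def_W4c6instabfans3Fan
import Groth.Agent.Instab.K979.Rat
import Mathlib.Topology.Algebra.Module.FiniteDimension
import Mathlib.Topology.Maps.Basic

/-!
# Formal fans: basic calculus of the projective realization

The real extension `rmap` of an additive map of lattices, the maps `Orth.map`, and the key
description `P.mk_eq_mk_iff` of the gluing: two points of rational simplices agree in `P F` iff they
come from a common sub-cone.
-/

set_option autoImplicit false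

universe u

open CategoryTheory Opposite Instab

namespace K979.Fan

open Instab.Fan

/-! ### Real extension of an additive map of lattices -/

/-- The real linear map with the integral matrix of `φ`. -/
def rmap {k N : ℕ} (φ : (Fin k → ℤ) →ₗ[ℤ] (Fin N → ℤ)) : (Fin k → ℝ) →ₗ[ℝ] (Fin N → ℝ) where
  toFun v j := ∑ i, (φ (Pi.single i 1) j : ℝ) * v i
  map_add' v w := by
    funext j
    simp [mul_add, Finset.sum_add_distrib]
  map_smul' c v := by
    funext j
    simp only [Pi.smul_apply, smul_eq_mul, RingHom.id_apply, Finset.mul_sum]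
    exact Finset.sum_congr rfl fun i _ => by ring

theorem rmap_apply {k N : ℕ} (φ : (Fin k → ℤ) →ₗ[ℤ] (Fin N → ℤ)) (v : Fin k → ℝ) (j : Fin N) :
    rmap φ v j = ∑ i, (φ (Pi.single i 1) j : ℝ) * v i := rfl

theorem toLin_eq_sum {k N : ℕ} (φ : (Fin k → ℤ) →ₗ[ℤ] (Fin N → ℤ)) (v : Fin k → ℤ) (j : Fin N) :
    φ v j = ∑ i, φ (Pi.single i 1) j * v i := by
  classical
  conv_lhs => rw [show v = ∑ i, v i • (Pi.single i 1 : Fin k → ℤ) by
    funext j
    simp [Finset.sum_apply, Pi.single_apply]]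
  rw [map_sum, Finset.sum_apply]
  refine Finset.sum_congr rfl fun i _ => ?_
  rw [map_smul, Pi.smul_apply, smul_eq_mul, mul_comm]

theorem rmap_intCast {k N : ℕ} (φ : (Fin k → ℤ) →ₗ[ℤ] (Fin N → ℤ)) (v : Fin k → ℤ) :
    rmap φ (fun i => (v i : ℝ)) = fun j => (φ v j : ℝ) := by
  funext j
  rw [rmap_apply, toLin_eq_sum]
  push_cast
  rfl

theorem rmap_comp {k m N : ℕ} (φ : (Fin m → ℤ) →ₗ[ℤ] (Fin N → ℤ)) (ψ : (Fin k → ℤ) →ₗ[ℤ] (Fin m → ℤ))
    (v : Fin k → ℝ) : rmap (φ.comp ψ) v = rmap φ (rmap ψ v) := by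
  funext j
  simp only [rmap_apply, LinearMap.comp_apply]
  have : ∀ i, ((φ (ψ (Pi.single i 1)) j : ℤ) : ℝ) =
      ∑ l, (φ (Pi.single l 1) j : ℝ) * (ψ (Pi.single i 1) l : ℝ) := by
    intro i
    rw [toLin_eq_sum φ (ψ (Pi.single i 1)) j]
    push_cast
    rfl
  simp only [this, Finset.sum_mul, Finset.mul_sum]
  rw [Finset.sum_comm]
  exact Finset.sum_congr rfl fun i _ => Finset.sum_congr rfl fun l _ => by ring

theorem rmap_id {k : ℕ} (v : Fin k → ℝ) : rmap (LinearMap.id : (Fin k → ℤ) →ₗ[ℤ] (Fin k → ℤ)) v = v := by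
  classical
  funext j
  simp [rmap_apply, Pi.single_apply]

theorem rmap_injective {k N : ℕ} (φ : (Fin k → ℤ) →ₗ[ℤ] (Fin N → ℤ)) (hφ : Function.Injective φ) :
    Function.Injective (rmap φ) := by
  rw [← LinearMap.ker_eq_bot, LinearMap.ker_eq_bot']
  intro v hv
  refine K979.Rat.eq_zero_of_forall_sum_eq_zero (fun j i => φ (Pi.single i 1) j) ?_ v
    (fun j => congrFun hv j)
  intro z hz
  apply hφ
  rw [map_zero]
  funext j
  rw [toLin_eq_sum]
  exact hz j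

theorem rmap_nonneg {k N : ℕ} (φ : (Fin k → ℤ) →ₗ[ℤ] (Fin N → ℤ))
    (hφ : ∀ v : Fin k → ℤ, (∀ i, 0 ≤ v i) → ∀ j, 0 ≤ φ v j) (v : Fin k → ℝ) (hv : ∀ i, 0 ≤ v i)
    (j : Fin N) : 0 ≤ rmap φ v j := by
  classical
  rw [rmap_apply]
  refine Finset.sum_nonneg fun i _ => mul_nonneg ?_ (hv i)
  have := hφ (Pi.single i 1) (fun l => by
    by_cases h : l = i
    · subst h; simp
    · simp [h]) j
  exact_mod_cast this

theorem realMap_eq {k n : ICone} (φ : k ⟶ n) (v : Fin k.dim → ℝ) : φ.realMap v = rmap φ.toLin v := rfl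

@[simp] theorem comp_toLin {k m n : ICone} (φ : k ⟶ m) (ψ : m ⟶ n) :
    (φ ≫ ψ).toLin = ψ.toLin.comp φ.toLin := rfl

@[simp] theorem id_toLin (n : ICone) : ICone.Hom.toLin (𝟙 n) = LinearMap.id := rfl

/-! ### Punctured orthants -/

/-- The map of punctured orthants of a cone morphism. -/
def omap {k n : ICone} (φ : k ⟶ n) (v : Orth k) : Orth n :=
  ⟨rmap φ.toLin v.1, rmap_nonneg _ φ.nonneg _ v.2.1, fun h => v.2.2 (by
    have := rmap_injective φ.toLin φ.injective (h.trans (map_zero _).symm)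
    exact this)⟩

theorem omap_val {k n : ICone} (φ : k ⟶ n) (v : Orth k) : (omap φ v).1 = rmap φ.toLin v.1 := rfl

theorem realMap_eq_omap {k n : ICone} (φ : k ⟶ n) (v : Orth k) : φ.realMap v.1 = (omap φ v).1 := rfl

theorem omap_comp {k m n : ICone} (φ : k ⟶ m) (ψ : m ⟶ n) (v : Orth k) :
    omap (φ ≫ ψ) v = omap ψ (omap φ v) := Subtype.ext (rmap_comp _ _ _)

@[simp] theorem omap_id {n : ICone} (v : Orth n) : omap (𝟙 n) v = v := Subtype.ext (rmap_id _)

/-- Positive rescaling. -/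
def osmul {n : ICone} (c : ℝ) (hc : 0 < c) (v : Orth n) : Orth n :=
  ⟨c • v.1, fun i => mul_nonneg hc.le (v.2.1 i), fun h => v.2.2 (by
    have := (smul_eq_zero.mp h).resolve_left hc.ne'
    exact this)⟩

@[simp] theorem osmul_val {n : ICone} (c : ℝ) (hc : 0 < c) (v : Orth n) :
    (osmul c hc v).1 = c • v.1 := rfl

theorem omap_osmul {k n : ICone} (φ : k ⟶ n) (c : ℝ) (hc : 0 < c) (v : Orth k) :
    omap φ (osmul c hc v) = osmul c hc (omap φ v) := Subtype.ext (by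
      simp [omap_val, osmul_val])

theorem osmul_osmul {n : ICone} (c d : ℝ) (hc : 0 < c) (hd : 0 < d) (v : Orth n) :
    osmul c hc (osmul d hd v) = osmul (c * d) (mul_pos hc hd) v := Subtype.ext (by
      simp [osmul_val, smul_smul])

/-- Same ray. -/
def Ray {n : ICone} (v w : Orth n) : Prop := ∃ c : ℝ, 0 < c ∧ v.1 = c • w.1

theorem Ray.refl {n : ICone} (v : Orth n) : Ray v v := ⟨1, one_pos, by simp⟩

theorem Ray.symm {n : ICone} {v w : Orth n} (h : Ray v w) : Ray w v := by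
  obtain ⟨c, hc, h⟩ := h
  exact ⟨c⁻¹, inv_pos.mpr hc, by rw [h, smul_smul, inv_mul_cancel₀ hc.ne', one_smul]⟩

theorem Ray.trans {n : ICone} {v w x : Orth n} (h : Ray v w) (h' : Ray w x) : Ray v x := by
  obtain ⟨c, hc, h⟩ := h
  obtain ⟨d, hd, h'⟩ := h'
  exact ⟨c * d, mul_pos hc hd, by rw [h, h', smul_smul]⟩

theorem Ray.osmul {n : ICone} (c : ℝ) (hc : 0 < c) (v : Orth n) : Ray (osmul c hc v) v := ⟨c, hc, rfl⟩

theorem Ray.omap {k n : ICone} (φ : k ⟶ n) {v w : Orth k} (h : Ray v w) :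
    Ray (omap φ v) (omap φ w) := by
  obtain ⟨c, hc, h⟩ := h
  exact ⟨c, hc, by rw [omap_val, omap_val, h, map_smul]⟩

/-- Cone morphisms are injective on rays. -/
theorem Ray.of_omap {k n : ICone} (φ : k ⟶ n) {v w : Orth k}
    (h : Ray (K979.Fan.omap φ v) (K979.Fan.omap φ w)) : Ray v w := by
  obtain ⟨c, hc, h⟩ := h
  refine ⟨c, hc, rmap_injective φ.toLin φ.injective ?_⟩
  rw [omap_val, omap_val] at h
  rw [h, map_smul]

/-! ### Refinements -/

/-- Common refinement of two points with the same image under injective integral maps. -/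
theorem exists_refine {n₁ n₂ : ICone} {N : ℕ} (φ₁ : (Fin n₁.dim → ℤ) →ₗ[ℤ] (Fin N → ℤ))
    (φ₂ : (Fin n₂.dim → ℤ) →ₗ[ℤ] (Fin N → ℤ)) (h₁ : Function.Injective φ₁)
    (h₂ : Function.Injective φ₂) (v₁ : Orth n₁) (v₂ : Orth n₂) (h : rmap φ₁ v₁.1 = rmap φ₂ v₂.1) :
    ∃ (k : ICone) (ψ₁ : k ⟶ n₁) (ψ₂ : k ⟶ n₂) (y : Orth k),
      φ₁.comp ψ₁.toLin = φ₂.comp ψ₂.toLin ∧ v₁ = omap ψ₁ y ∧ v₂ = omap ψ₂ y := by
  classical
  obtain ⟨k, z, t, hz, hli, ht, hsum, hrel⟩ := K979.Rat.exists_cone_decomp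
    (Sum.elim v₁.1 v₂.1 : Fin n₁.dim ⊕ Fin n₂.dim → ℝ)
    (by rintro (i | i); exacts [v₁.2.1 i, v₂.2.1 i])
    (fun h0 => v₁.2.2 (funext fun i => congrFun h0 (Sum.inl i)))
  -- the two families of columns
  let a : Fin k → (Fin n₁.dim → ℤ) := fun l i => z l (Sum.inl i)
  let b : Fin k → (Fin n₂.dim → ℤ) := fun l i => z l (Sum.inr i)
  have hab : ∀ l, φ₁ (a l) = φ₂ (b l) := by
    intro l
    funext j
    have := hrel (Sum.elim (fun i => φ₁ (Pi.single i 1) j) (fun i => - φ₂ (Pi.single i 1) j)) (by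
      rw [Fintype.sum_sum_type]
      simp only [Sum.elim_inl, Sum.elim_inr]
      have := congrFun h j
      rw [rmap_apply, rmap_apply] at this
      push_cast
      rw [this, ← Finset.sum_add_distrib]
      exact Finset.sum_eq_zero fun i _ => by ring) l
    rw [Fintype.sum_sum_type] at this
    simp only [Sum.elim_inl, Sum.elim_inr] at this
    rw [toLin_eq_sum φ₁, toLin_eq_sum φ₂]
    have h3 : ∑ i, -(φ₂ (Pi.single i 1) j) * z l (Sum.inr i) = -∑ i, φ₂ (Pi.single i 1) j * b l i := by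
      rw [← Finset.sum_neg_distrib]
      exact Finset.sum_congr rfl fun i _ => by simp [b]
    rw [h3] at this
    linarith
  let A : (Fin k → ℤ) →ₗ[ℤ] (Fin n₁.dim → ℤ) := Fintype.linearCombination ℤ a
  let B : (Fin k → ℤ) →ₗ[ℤ] (Fin n₂.dim → ℤ) := Fintype.linearCombination ℤ b
  have hA : ∀ v, A v = ∑ l, v l • a l := fun v => Fintype.linearCombination_apply ..
  have hB : ∀ v, B v = ∑ l, v l • b l := fun v => Fintype.linearCombination_apply ..
  have hAB : ∀ v, φ₁ (A v) = φ₂ (B v) := by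
    intro v
    rw [hA, hB, map_sum, map_sum]
    exact Finset.sum_congr rfl fun l _ => by rw [map_smul, map_smul, hab]
  have hzero : ∀ v, A v = 0 → B v = 0 → v = 0 := by
    intro v h1 h2
    have h3 : ∑ l, v l • z l = 0 := by
      funext i
      rcases i with i | i
      · have := congrFun h1 i
        rw [hA] at this
        simpa [Finset.sum_apply, a] using this
      · have := congrFun h2 i
        rw [hB] at this
        simpa [Finset.sum_apply, b] using this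
    funext l
    exact Fintype.linearIndependent_iff.mp hli v h3 l
  have hAi : Function.Injective A := by
    rw [← LinearMap.ker_eq_bot, LinearMap.ker_eq_bot']
    intro v hv
    refine hzero v hv (h₂ ?_)
    rw [← hAB, hv, map_zero, map_zero]
  have hBi : Function.Injective B := by
    rw [← LinearMap.ker_eq_bot, LinearMap.ker_eq_bot']
    intro v hv
    refine hzero v (h₁ ?_) hv
    rw [hAB, hv, map_zero, map_zero]
  have hAn : ∀ v : Fin k → ℤ, (∀ i, 0 ≤ v i) → ∀ j, 0 ≤ A v j := by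
    intro v hv j
    rw [hA, Finset.sum_apply]
    exact Finset.sum_nonneg fun l _ => mul_nonneg (hv l) (hz l _)
  have hBn : ∀ v : Fin k → ℤ, (∀ i, 0 ≤ v i) → ∀ j, 0 ≤ B v j := by
    intro v hv j
    rw [hB, Finset.sum_apply]
    exact Finset.sum_nonneg fun l _ => mul_nonneg (hv l) (hz l _)
  refine ⟨⟨k⟩, ⟨A, hAi, hAn⟩, ⟨B, hBi, hBn⟩, ⟨t, fun l => (ht l).le, fun h0 => ?_⟩, ?_, ?_, ?_⟩
  · have := congrFun h0 ⟨0, k.pos⟩
    exact (ht ⟨0, k.pos⟩).ne' this
  · exact LinearMap.ext fun v => hAB v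
  · refine Subtype.ext (funext fun i => ?_)
    change v₁.1 i = rmap A t i
    rw [rmap_apply]
    have := hsum (Sum.inl i)
    simp only [Sum.elim_inl] at this
    rw [this]
    refine Finset.sum_congr rfl fun l _ => ?_
    change t l * _ = (A (Pi.single l 1) i : ℝ) * t l
    rw [hA, Finset.sum_eq_single l]
    · simp [a, mul_comm]
    · intro m _ hm; simp [Pi.single_eq_of_ne hm]
    · simp
  · refine Subtype.ext (funext fun i => ?_)
    change v₂.1 i = rmap B t i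
    rw [rmap_apply]
    have := hsum (Sum.inr i)
    simp only [Sum.elim_inr] at this
    rw [this]
    refine Finset.sum_congr rfl fun l _ => ?_
    change t l * _ = (B (Pi.single l 1) i : ℝ) * t l
    rw [hB, Finset.sum_eq_single l]
    · simp [b, mul_comm]
    · intro m _ hm; simp [Pi.single_eq_of_ne hm]
    · simp

/-- Common refinement of two points of orthants with the same ray image under cone morphisms. -/
theorem exists_refine_ray {n₁ n₂ m : ICone} (φ₁ : n₁ ⟶ m) (φ₂ : n₂ ⟶ m) (v₁ : Orth n₁) (v₂ : Orth n₂)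
    (h : Ray (omap φ₁ v₁) (omap φ₂ v₂)) :
    ∃ (k : ICone) (ψ₁ : k ⟶ n₁) (ψ₂ : k ⟶ n₂) (y : Orth k),
      ψ₁ ≫ φ₁ = ψ₂ ≫ φ₂ ∧ Ray v₁ (omap ψ₁ y) ∧ Ray v₂ (omap ψ₂ y) := by
  obtain ⟨c, hc, h⟩ := h
  obtain ⟨k, ψ₁, ψ₂, y, e, h1, h2⟩ := exists_refine φ₁.toLin φ₂.toLin φ₁.injective φ₂.injective
    v₁ (osmul c hc v₂) (by
      rw [omap_val, omap_val] at h
      rw [h, osmul_val, map_smul])
  refine ⟨k, ψ₁, ψ₂, y, ICone.Hom.ext e, ?_, ?_⟩
  · rw [← h1]; exact Ray.refl _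
  · rw [← h2]; exact (Ray.osmul c hc v₂).symm

/-! ### The projective realization -/

variable {F G : Fan.{u}}

theorem P_ind (x : P F) : ∃ (n : ICone) (ξ : F.obj (op n)) (v : Orth n), x = P.mk ξ v := by
  obtain ⟨⟨⟨n, ξ⟩, v⟩, rfl⟩ := Quot.exists_rep x
  exact ⟨n, ξ, v, rfl⟩

@[simp] theorem P_map_mk (f : F ⟶ G) {n : ICone} (ξ : F.obj (op n)) (v : Orth n) :
    P.map f (P.mk ξ v) = P.mk (f.app _ ξ) v := rfl

theorem P_mk_map {k n : ICone} (φ : k ⟶ n) (ξ : F.obj (op n)) (v : Orth k) :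
    P.mk (F.map φ.op ξ) v = P.mk ξ (omap φ v) :=
  Quot.sound (Rel.glue φ ξ v (omap φ v) 1 one_pos (by rw [one_smul]; rfl))

theorem P_mk_ray {n : ICone} (ξ : F.obj (op n)) {v w : Orth n} (h : Ray v w) : P.mk ξ v = P.mk ξ w := by
  obtain ⟨c, hc, h⟩ := h
  have h1 : F.map (𝟙 n : n ⟶ n).op ξ = ξ := by rw [op_id, F.map_id]; rfl
  have h2 : P.mk (F.map (𝟙 n : n ⟶ n).op ξ) w = P.mk ξ v := by
    refine Quot.sound (Rel.glue (𝟙 n) ξ w v c hc ?_)
    rw [realMap_eq, id_toLin, rmap_id]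
    exact h
  rw [← h2, h1]

theorem P_mk_osmul {n : ICone} (ξ : F.obj (op n)) (c : ℝ) (hc : 0 < c) (v : Orth n) :
    P.mk ξ (osmul c hc v) = P.mk ξ v := P_mk_ray ξ (Ray.osmul c hc v)

/-- The common sub-cone relation. -/
def Common (p q : Pt F) : Prop :=
  ∃ (k : ICone) (φ₁ : k ⟶ p.1.1) (φ₂ : k ⟶ q.1.1) (y : Orth k),
    F.map φ₁.op p.1.2 = F.map φ₂.op q.1.2 ∧ Ray p.2 (omap φ₁ y) ∧ Ray q.2 (omap φ₂ y)

theorem Common.refl (p : Pt F) : Common p p :=
  ⟨p.1.1, 𝟙 _, 𝟙 _, p.2, rfl, by rw [omap_id]; exact Ray.refl _, by rw [omap_id]; exact Ray.refl _⟩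

theorem Common.symm {p q : Pt F} (h : Common p q) : Common q p := by
  obtain ⟨k, φ₁, φ₂, y, e, h1, h2⟩ := h
  exact ⟨k, φ₂, φ₁, y, e.symm, h2, h1⟩

theorem map_comp_apply {k m n : ICone} (φ : k ⟶ m) (ψ : m ⟶ n) (ξ : F.obj (op n)) :
    F.map (φ ≫ ψ).op ξ = F.map φ.op (F.map ψ.op ξ) := by
  rw [op_comp, F.map_comp]; rfl

theorem Common.trans {p q r : Pt F} (h : Common p q) (h' : Common q r) : Common p r := by
  obtain ⟨k, φ₁, φ₂, y, e, h1, h2⟩ := h
  obtain ⟨k', φ₁', φ₂', y', e', h1', h2'⟩ := h'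
  obtain ⟨m, ψ, ψ', z, e'', h3, h4⟩ := exists_refine_ray φ₂ φ₁' y y' (h2.symm.trans h1')
  refine ⟨m, ψ ≫ φ₁, ψ' ≫ φ₂', z, ?_, ?_, ?_⟩
  · rw [map_comp_apply, e, ← map_comp_apply, e'', map_comp_apply, e', ← map_comp_apply]
  · rw [omap_comp]; exact h1.trans (h3.omap φ₁)
  · rw [omap_comp]; exact h2'.trans (h4.omap φ₂')

theorem Common.of_rel {p q : Pt F} (h : Rel F p q) : Common p q := by
  obtain ⟨φ, ξ, v, w, c, hc, h⟩ := h
  rename_i k n
  refine ⟨k, 𝟙 _, φ, v, ?_, ?_, ⟨c, hc, h⟩⟩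
  · change F.map (𝟙 k : k ⟶ k).op (F.map φ.op ξ) = _
    rw [op_id, F.map_id]; rfl
  · rw [omap_id]; exact Ray.refl _

theorem Common.of_eqvGen {p q : Pt F} (h : Relation.EqvGen (Rel F) p q) : Common p q := by
  induction h with
  | rel _ _ h => exact Common.of_rel h
  | refl _ => exact Common.refl _
  | symm _ _ _ ih => exact ih.symm
  | trans _ _ _ _ _ ih1 ih2 => exact ih1.trans ih2

/-- **Common sub-cone lemma**: two points of rational simplices agree in `P F` iff they come from a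
common sub-cone. -/
theorem P_mk_eq_mk_iff {n₁ n₂ : ICone} {σ₁ : F.obj (op n₁)} {σ₂ : F.obj (op n₂)} {v₁ : Orth n₁}
    {v₂ : Orth n₂} : P.mk σ₁ v₁ = P.mk σ₂ v₂ ↔ ∃ (k : ICone) (φ₁ : k ⟶ n₁) (φ₂ : k ⟶ n₂) (y : Orth k),
      F.map φ₁.op σ₁ = F.map φ₂.op σ₂ ∧ Ray v₁ (omap φ₁ y) ∧ Ray v₂ (omap φ₂ y) := by
  constructor
  · intro h
    exact Common.of_eqvGen (Quot.eqvGen_exact h)
  · rintro ⟨k, φ₁, φ₂, y, e, h1, h2⟩
    rw [P_mk_ray σ₁ h1, P_mk_ray σ₂ h2, ← P_mk_map, ← P_mk_map, e]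

end K979.Fan
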