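import Mathlib.RingTheory.MvPolynomial.WeightedHomogeneous
import Mathlib.Algebra.GradedMulAction
import Mathlib.Algebra.Module.Projective
import Mathlib.RingTheory.Finiteness.Defs
import Mathlib.RingTheory.Spectrum.Prime.Basic
import Mathlib.Algebra.DirectSum.Decomposition
import Mathlib.RingTheory.LocalRing.Module
import Mathlib.RingTheory.LocalProperties.Projective
import Mathlib.Algebra.Module.FinitePresentation
import Mathlib.RingTheory.Localization.AtPrime.Basic

/-!
# Local freeness of finite projective modules on a spanning family, and graded components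

`K979.GrFree.exists_basis_away`: for a finite projective module, a family of generators and a prime, there are finitely
many members of the family and an element outside the prime which exhibit them as a basis, in
elementary terms.
`K979.GrFree.decompose_smul`: components of a product in a `ℤ^n`-graded module over a polynomial ring.
-/

set_option autoImplicit false

universe u v

namespace K979.GrFree

/-- Local freeness of a finite projective module at a prime, on a subfamily of a family of generators, in
elementary terms. -/
theorem exists_basis_away {A : Type u} [CommRing A] {P : Type v} [AddCommGroup P] [Module A P]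
    [Module.Finite A P] [Module.Projective A P] (𝔮 : Ideal A) [𝔮.IsPrime] {ι : Type v} (v : ι → P)
    (hv : Submodule.span A (Set.range v) = ⊤) :
    ∃ s : A, s ∉ 𝔮 ∧ ∃ (m : ℕ) (a : Fin m → ι),
      (∀ q : P, ∃ c : Fin m → A, s • q = ∑ i, c i • v (a i)) ∧
      (∀ c : Fin m → A, ∑ i, c i • v (a i) = 0 → ∀ i, s * c i = 0) := by
  classical
  let S := 𝔮.primeCompl
  let A' := Localization.AtPrime 𝔮
  let P' := LocalizedModule S P
  let f := LocalizedModule.mkLinearMap S P
  have hproj : Module.Projective A' P' := inferInstance
  have hfin : Module.Finite A' P' := Module.Finite.of_isLocalizedModule S f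
  have hfp : Module.FinitePresentation A' P' := Module.finitePresentation_of_projective _ _
  have hflat : Module.Flat A' P' := inferInstance
  have hspan : Submodule.span A' (Set.range (f ∘ v)) = ⊤ := by
    rw [eq_top_iff]
    rintro x -
    induction x using LocalizedModule.induction_on with
    | h q s =>
      have h1 : LocalizedModule.mk q s = (Localization.mk 1 s : A') • f q := by
        rw [LocalizedModule.mkLinearMap_apply, LocalizedModule.mk_smul_mk, one_smul, mul_one]
      rw [h1]
      refine Submodule.smul_mem _ _ ?_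
      have h2 : q ∈ Submodule.span A (Set.range v) := by rw [hv]; trivial
      have h3 : f q ∈ (Submodule.span A (Set.range v)).map f := ⟨q, h2, rfl⟩
      rw [Submodule.map_span, ← Set.range_comp] at h3
      exact Submodule.span_subset_span A A' _ h3
  obtain ⟨κ, a, b, hb⟩ := Module.exists_basis_of_span_of_flat (f ∘ v) hspan
  have hκ : Finite κ := Module.Finite.finite_basis b
  obtain ⟨m, ⟨e⟩⟩ := Finite.exists_equiv_fin κ
  let a' : Fin m → ι := fun i => a (e.symm i)
  let b' : Module.Basis (Fin m) A' P' := b.reindex e
  have hb' : ∀ i, b' i = f (v (a' i)) := fun i => by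
    simp only [b', a', Module.Basis.reindex_apply, hb]; rfl
  let l : (Fin m → A) →ₗ[A] P := Fintype.linearCombination A (fun i => v (a' i))
  have hl : ∀ c, l c = ∑ i, c i • v (a' i) := fun c => Fintype.linearCombination_apply ..
  -- generation at a multiple
  have hgen : ∀ q : P, ∃ s ∈ S, s • q ∈ LinearMap.range l := by
    intro q
    have h1 := b'.sum_repr (f q)
    obtain ⟨s, hs⟩ := IsLocalization.exist_integer_multiples_of_finite S (fun i => b'.repr (f q) i)
    choose c hc using hs
    have h2 : f ((s : A) • q) = f (l c) := by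
      rw [map_smul, hl, map_sum, ← h1, Finset.smul_sum]
      refine Finset.sum_congr rfl fun i _ => ?_
      rw [map_smul, ← hb' i, ← smul_assoc, ← hc i, algebraMap_smul]
    rw [LocalizedModule.mkLinearMap_apply, LocalizedModule.mkLinearMap_apply, LocalizedModule.mk_eq]
      at h2
    obtain ⟨t, ht⟩ := h2
    simp only [one_smul] at ht
    refine ⟨t * s, S.mul_mem t.2 s.2, ?_⟩
    have h3 : (t : A) • ((s : A) • q) = (t : A) • l c := ht
    rw [mul_smul, h3]
    exact Submodule.smul_mem _ _ ⟨c, rfl⟩
  -- generation with a uniform multiple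
  obtain ⟨s₁, hs₁, hs₁gen⟩ : ∃ s₁ ∈ S, ∀ q : P, s₁ • q ∈ LinearMap.range l := by
    obtain ⟨G, hG⟩ := (Module.Finite.fg_top : (⊤ : Submodule A P).FG)
    choose s hs hsq using hgen
    refine ⟨∏ g ∈ G, s g, S.prod_mem fun g _ => hs g, fun q => ?_⟩
    have hq : q ∈ Submodule.span A (G : Set P) := by rw [hG]; trivial
    induction hq using Submodule.span_induction with
    | mem g hg =>
      rw [← Finset.prod_erase_mul G s hg, mul_smul]
      exact Submodule.smul_mem _ _ (hsq g)
    | zero => rw [smul_zero]; exact Submodule.zero_mem _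
    | add x y _ _ hx hy => rw [smul_add]; exact Submodule.add_mem _ hx hy
    | smul c x _ hx => rw [smul_comm]; exact Submodule.smul_mem _ _ hx
  -- relations are torsion
  have hrel : ∀ c : Fin m → A, l c = 0 → ∃ t ∈ S, ∀ i, t * c i = 0 := by
    intro c hc
    have h1 : ∑ i, (algebraMap A A' (c i)) • b' i = 0 := by
      have h2 := congrArg f hc
      rw [map_zero, hl, map_sum] at h2
      rw [← h2]
      refine Finset.sum_congr rfl fun i _ => ?_
      rw [map_smul, hb' i, algebraMap_smul]
    have h2 : ∀ i, algebraMap A A' (c i) = 0 := fun i =>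
      Fintype.linearIndependent_iff.mp b'.linearIndependent _ h1 i
    have h3 : ∀ i, ∃ t : S, (t : A) * c i = 0 := fun i =>
      (IsLocalization.map_eq_zero_iff S A' (c i)).mp (h2 i)
    choose t ht using h3
    refine ⟨∏ i, (t i : A), S.prod_mem fun i _ => (t i).2, fun i => ?_⟩
    rw [← Finset.prod_erase_mul Finset.univ (fun i => (t i : A)) (Finset.mem_univ i), mul_assoc, ht,
      mul_zero]
  -- a quasi-section
  obtain ⟨h, hh⟩ : ∃ h : P →ₗ[A] (Fin m → A), ∀ q, l (h q) = s₁ • q := by
    let g : P →ₗ[A] LinearMap.range l := LinearMap.codRestrict _ (LinearMap.lsmul A P s₁) hs₁gen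
    obtain ⟨h, hh⟩ := Module.projective_lifting_property l.rangeRestrict g l.surjective_rangeRestrict
    refine ⟨h, fun q => ?_⟩
    have h1 := LinearMap.congr_fun hh q
    exact congrArg Subtype.val h1
  -- uniform annihilator of the relations
  have hker : ∀ j : Fin m, l (h (v (a' j)) - s₁ • Pi.single j 1) = 0 := by
    intro j
    rw [map_sub, hh, map_smul, hl (Pi.single j 1), Finset.sum_eq_single j]
    · simp
    · intro i _ hi; simp [Pi.single_eq_of_ne hi]
    · simp
  choose t ht htj using fun j => hrel _ (hker j)
  refine ⟨s₁ * ∏ j, t j, fun hmem => ?_, m, a', fun q => ?_, fun c hc i => ?_⟩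
  · exact S.mul_mem hs₁ (S.prod_mem fun j _ => ht j) hmem
  · obtain ⟨c, hc⟩ := hs₁gen q
    refine ⟨fun i => (∏ j, t j) * c i, ?_⟩
    rw [mul_comm, mul_smul, ← hc, hl, Finset.smul_sum]
    exact Finset.sum_congr rfl fun i _ => by rw [smul_smul]
  · -- `s₁ c = - ∑ c j (h (f j) - s₁ e j)`
    have h1 : ∑ j, c j • (h (v (a' j)) - s₁ • (Pi.single j 1 : Fin m → A)) = - (s₁ • c) := by
      simp only [smul_sub, Finset.sum_sub_distrib]
      have h2 : ∑ j, c j • h (v (a' j)) = 0 := by
        rw [← map_zero h, ← hc, map_sum]
        exact Finset.sum_congr rfl fun j _ => (map_smul _ _ _).symm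
      have h3 : ∑ j, c j • s₁ • (Pi.single j 1 : Fin m → A) = s₁ • c := by
        funext i
        simp [Finset.sum_apply, Pi.single_apply, mul_comm]
      rw [h2, h3, zero_sub]
    have h2 := congrFun h1 i
    have h3 : (∏ j, t j) * (∑ j, c j • (h (v (a' j)) - s₁ • (Pi.single j 1 : Fin m → A))) i = 0 := by
      rw [Finset.sum_apply, Finset.mul_sum]
      refine Finset.sum_eq_zero fun j _ => ?_
      rw [← Finset.prod_erase_mul Finset.univ t (Finset.mem_univ j), Pi.smul_apply, smul_eq_mul]
      have h4 := htj j i
      calc (∏ x ∈ Finset.univ.erase j, t x) * t j *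
            (c j * (h (v (a' j)) - s₁ • (Pi.single j 1 : Fin m → A)) i)
          = (∏ x ∈ Finset.univ.erase j, t x) * c j *
            (t j * (h (v (a' j)) - s₁ • (Pi.single j 1 : Fin m → A)) i) := by ring
        _ = 0 := by rw [h4, mul_zero]
    rw [h2] at h3
    have h5 : (-(s₁ • c)) i = -(s₁ * c i) := rfl
    rw [h5] at h3
    calc s₁ * (∏ j, t j) * c i = -((∏ j, t j) * -(s₁ * c i)) := by ring
      _ = 0 := by rw [h3, neg_zero]

/-! ### Components -/

open MvPolynomial DirectSum

variable {R : Type u} [CommRing R] {n : ℕ}

/-- The weights of the variables. -/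
abbrev wt (n : ℕ) : Fin n → (Fin n → ℤ) := fun i => Pi.single i 1

theorem weight_wt (m : Fin n →₀ ℕ) : Finsupp.weight (wt n) m = fun i => (m i : ℤ) := by
  classical
  funext j
  rw [Finsupp.weight_apply, Finsupp.sum_fintype _ _ (by simp), Finset.sum_apply]
  rw [Finset.sum_eq_single j]
  · simp [wt]
  · intro i _ hi; simp [wt, Pi.single_eq_of_ne (Ne.symm hi)]
  · simp

theorem weight_wt_injective : Function.Injective (Finsupp.weight (wt n) : (Fin n →₀ ℕ) →+ _) := by
  intro a b h
  rw [weight_wt, weight_wt] at h
  ext i
  exact_mod_cast congrFun h i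

variable {P : Type v} [AddCommGroup P] [Module (MvPolynomial (Fin n) R) P] [Module R P]
    [IsScalarTower R (MvPolynomial (Fin n) R) P]
    (ℳ : (Fin n → ℤ) → Submodule R P) [DirectSum.Decomposition ℳ]
    [SetLike.GradedSMul (MvPolynomial.weightedHomogeneousSubmodule R (wt n)) ℳ]

/-- Components of a product in a graded module. -/
theorem decompose_smul (a : MvPolynomial (Fin n) R) {D : Fin n → ℤ} {q : P} (hq : q ∈ ℳ D)
    (E : Fin n → ℤ) :
    (DirectSum.decompose ℳ (a • q) E : P) = weightedHomogeneousComponent (wt n) (E - D) a • q := by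
  classical
  induction a using MvPolynomial.induction_on' with
  | monomial m r =>
    have hm : IsWeightedHomogeneous (wt n) (monomial m r) (Finsupp.weight (wt n) m) :=
      isWeightedHomogeneous_monomial _ _ _ rfl
    have hmem : (monomial m r : MvPolynomial (Fin n) R) • q ∈ ℳ (Finsupp.weight (wt n) m +ᵥ D) :=
      SetLike.GradedSMul.smul_mem (A := MvPolynomial.weightedHomogeneousSubmodule R (wt n)) (B := ℳ)
        hm hq
    by_cases hE : E - D = Finsupp.weight (wt n) m
    · have hE' : Finsupp.weight (wt n) m +ᵥ D = E := by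
        rw [vadd_eq_add, ← hE, sub_add_cancel]
      rw [hE'] at hmem
      rw [DirectSum.decompose_of_mem_same ℳ hmem, hE, hm.weightedHomogeneousComponent_same]
    · have hE' : Finsupp.weight (wt n) m +ᵥ D ≠ E := by
        intro h
        apply hE
        rw [← h, vadd_eq_add, add_sub_cancel_right]
      rw [DirectSum.decompose_of_mem_ne ℳ hmem hE', hm.weightedHomogeneousComponent_ne _ hE,
        zero_smul]
  | add a b ha hb =>
    rw [add_smul, DirectSum.decompose_add, DirectSum.add_apply, Submodule.coe_add, ha, hb, map_add,
      add_smul]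

/-- Components of a linear combination of homogeneous elements. -/
theorem decompose_sum_smul {m : ℕ} (c : Fin m → MvPolynomial (Fin n) R) (f : Fin m → P)
    (d : Fin m → (Fin n → ℤ)) (hf : ∀ i, f i ∈ ℳ (d i)) (E : Fin n → ℤ) :
    (DirectSum.decompose ℳ (∑ i, c i • f i) E : P) =
      ∑ i, weightedHomogeneousComponent (wt n) (E - d i) (c i) • f i := by
  classical
  rw [DirectSum.decompose_sum, DFinsupp.finsetSum_apply, AddSubmonoidClass.coe_finsetSum]
  exact Finset.sum_congr rfl fun i _ => decompose_smul ℳ (c i) (hf i) E

theorem weightedHomogeneousComponent_zero_eq (a : MvPolynomial (Fin n) R) :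
    weightedHomogeneousComponent (wt n) 0 a = C (constantCoeff a) := by
  classical
  ext m
  rw [coeff_weightedHomogeneousComponent, coeff_C]
  have h1 : (Finsupp.weight (wt n) m = 0) ↔ 0 = m := by
    constructor
    · intro h
      apply weight_wt_injective
      rw [h, map_zero]
    · rintro rfl
      rw [map_zero]
  by_cases h : 0 = m
  · rw [if_pos (h1.mpr h), if_pos h, ← h]
    rfl
  · rw [if_neg (fun h' => h (h1.mp h')), if_neg h]

end K979.GrFree
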