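import Groth.Prelude.Def_GmAct
import Mathlib.AlgebraicGeometry.Morphisms.Separated
import Mathlib.AlgebraicGeometry.Morphisms.SchemeTheoreticallyDominant
import Groth.Agent.S2299

/-!
# The multiplicative group is schematically dense in the affine line, over any base

`K979.LineDom.hom_ext`: morphisms `Line ⊗ T ⟶ X` with `X` separated which agree on `Gm ⊗ T` are equal.
`K979.LineDom.lift_j_act`: the inclusion of the group in the line is equivariant.
-/

set_option autoImplicit false

universe u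

open CategoryTheory MonoidalCategory CartesianMonoidalCategory MonObj GrpObj AlgebraicGeometry
open scoped TensorProduct Polynomial

namespace K979.LineDom

noncomputable section

variable {R : Type u} [CommRing R]

attribute [local instance] CoactBr.braidedAlgSpecOf

/-- The pair of projections exhibits `Spec (B ⊗ A)` as the product. -/
theorem isIso_lift_include (B A : Type u) [CommRing B] [CommRing A] [Algebra R B] [Algebra R A] :
    IsIso (lift (CoactBr.pt (Algebra.TensorProduct.includeLeft : B →ₐ[R] B ⊗[R] A))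
      (CoactBr.pt (Algebra.TensorProduct.includeRight : A →ₐ[R] B ⊗[R] A))) := by
  have h := CoactBr.lift_pt_pt (Algebra.TensorProduct.includeLeft : B →ₐ[R] B ⊗[R] A)
    (Algebra.TensorProduct.includeRight : A →ₐ[R] B ⊗[R] A)
  have h2 : Algebra.TensorProduct.lift (Algebra.TensorProduct.includeLeft : B →ₐ[R] B ⊗[R] A)
      (Algebra.TensorProduct.includeRight : A →ₐ[R] B ⊗[R] A) (fun _ _ => .all _ _) =
      AlgHom.id R (B ⊗[R] A) := by
    ext <;> simp
  rw [h2, CoactBr.pt_id] at h
  let e := Functor.Monoidal.μIso (algSpec (CommRingCat.of R)) (Opposite.op (CommAlgCat.of R B))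
      (Opposite.op (CommAlgCat.of R A))
  have h3 : lift (CoactBr.pt (Algebra.TensorProduct.includeLeft : B →ₐ[R] B ⊗[R] A))
      (CoactBr.pt (Algebra.TensorProduct.includeRight : A →ₐ[R] B ⊗[R] A)) ≫ e.hom = 𝟙 _ := h
  rw [(Iso.comp_hom_eq_id e).mp h3]
  exact e.symm.isIso_hom

/-- The inclusion `Gm ⟶ Line`. -/
abbrev j (R : Type u) [CommRing R] : ThetaS.Gm R ⟶ ThetaS.Line R :=
  CoactBr.pt (ThetaS.linePt (ThetaS.zPow R 1))

theorem whisker_j_act :
    (ThetaS.Gm R ◁ j R) ≫ (ThetaS.lineAction R).act = μ[ThetaS.Gm R] ≫ j R := by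
  have := isIso_lift_include (R := R) (ThetaS.Lau R) (ThetaS.Lau R)
  let iL : ThetaS.Lau R →ₐ[R] ThetaS.Lau R ⊗[R] ThetaS.Lau R := Algebra.TensorProduct.includeLeft
  let iR : ThetaS.Lau R →ₐ[R] ThetaS.Lau R ⊗[R] ThetaS.Lau R := Algebra.TensorProduct.includeRight
  have h0 : IsIso (lift (CoactBr.pt iL) (CoactBr.pt iR)) := this
  have h1 : lift (CoactBr.pt iL) (CoactBr.pt iR) ≫ (ThetaS.Gm R ◁ j R) ≫ (ThetaS.lineAction R).act =
      CoactBr.pt (ThetaS.linePt (iL (ThetaS.zPow R 1) * iR (ThetaS.zPow R 1))) := by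
    have h2 : lift (CoactBr.pt iL) (CoactBr.pt iR) ≫ (ThetaS.Gm R ◁ j R) =
        lift (CoactBr.pt iL) (CoactBr.pt (ThetaS.linePt (iR (ThetaS.zPow R 1)))) := by
      rw [lift_whiskerLeft]
      congr 1
      rw [← CoactBr.pt_comp]
      congr 1
      apply Polynomial.algHom_ext
      simp
    rw [← Category.assoc, h2]
    exact ThetaS.lineAction_pt iL (iR (ThetaS.zPow R 1))
  have h3 : lift (CoactBr.pt iL) (CoactBr.pt iR) ≫ μ[ThetaS.Gm R] ≫ j R =
      CoactBr.pt (ThetaS.linePt (iL (ThetaS.zPow R 1) * iR (ThetaS.zPow R 1))) := by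
    rw [← Category.assoc]
    have h4 : lift (CoactBr.pt iL) (CoactBr.pt iR) ≫ μ[ThetaS.Gm R] =
        CoactBr.pt ((Algebra.TensorProduct.lift iL iR fun _ _ => .all _ _).comp
          (Bialgebra.comulAlgHom R (ThetaS.Lau R))) := CoactBr.pt_mul_pt iL iR
    rw [h4, ← CoactBr.pt_comp]
    congr 1
    apply Polynomial.algHom_ext
    simp only [AlgHom.comp_apply, Polynomial.aeval_X]
    rw [Bialgebra.comulAlgHom_apply]
    have h5 := ThetaS.comul_zPow R 1
    rw [h5, Algebra.TensorProduct.lift_tmul]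
  exact (cancel_epi (lift (CoactBr.pt iL) (CoactBr.pt iR))).mp (h1.trans h3.symm)

/-- The inclusion of the group in the line is equivariant, on points. -/
theorem lift_j_act {S : Over (Spec (CommRingCat.of R))} (g h : S ⟶ ThetaS.Gm R) :
    lift g (h ≫ j R) ≫ (ThetaS.lineAction R).act = (g * h) ≫ j R := by
  have h1 : lift g (h ≫ j R) = lift g h ≫ (ThetaS.Gm R ◁ j R) := by rw [lift_whiskerLeft]
  rw [h1, Category.assoc, whisker_j_act, ← Category.assoc]
  rfl

/-- `Spec` of an injective ring map is schematically dominant. -/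
theorem dominant_spec {A B : CommRingCat.{u}} (f : A ⟶ B) (hf : Function.Injective f.hom) :
    IsSchemeTheoreticallyDominant (Spec.map f) := by
  rw [isSchemeTheoreticallyDominant_iff]
  refine Scheme.IdealSheafData.ext_of_isAffine ?_
  rw [Scheme.Hom.ker_apply]
  simp only [Scheme.IdealSheafData.ideal_bot, Pi.bot_apply]
  rw [← RingHom.injective_iff_ker_eq_bot]
  have h2 : (Spec.map f).appTop = (Scheme.ΓSpecIso _).hom ≫ f ≫ (Scheme.ΓSpecIso _).inv := by
    rw [← Category.assoc, Iso.eq_comp_inv]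
    exact Scheme.ΓSpecIso_naturality _
  change Function.Injective (Spec.map f).appTop.hom
  rw [h2]
  simp only [CommRingCat.hom_comp, RingHom.coe_comp]
  exact ((ConcreteCategory.bijective_of_isIso (Scheme.ΓSpecIso B).inv).1.comp
    hf).comp (ConcreteCategory.bijective_of_isIso (Scheme.ΓSpecIso A).hom).1

/-- The inclusion of polynomials in the group algebra of the integers, tensored with any algebra, is
injective. -/
theorem injective_map (A : Type u) [CommRing A] [Algebra R A] :
    Function.Injective (Algebra.TensorProduct.map (ThetaS.linePt (R := R) (ThetaS.zPow R 1)) (AlgHom.id R A)) := by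
  -- a linear retraction
  let r₀ : (Multiplicative ℤ →₀ R) →ₗ[R] R[X] := Finsupp.linearCombination R
    (fun n : Multiplicative ℤ => if 0 ≤ n.toAdd then (Polynomial.X : R[X]) ^ n.toAdd.toNat else 0)
  let r : ThetaS.Lau R →ₗ[R] R[X] :=
    { toFun := fun p => r₀ p.coeff
      map_add' := fun p q => by rw [MonoidAlgebra.coeff_add, map_add]
      map_smul' := fun c p => by rw [MonoidAlgebra.coeff_smul, map_smul]; rfl }
  have hr : r ∘ₗ (ThetaS.linePt (R := R) (ThetaS.zPow R 1)).toLinearMap = LinearMap.id := by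
    apply Polynomial.lhom_ext'
    intro n
    apply LinearMap.ext_ring
    have h1 : (ThetaS.zPow R 1) ^ n = ThetaS.zPow R n := by
      rw [ThetaS.zPow, MonoidAlgebra.single_pow, one_pow]
      congr 1
      rw [← ofAdd_nsmul]
      simp
    change r₀ (MonoidAlgebra.coeff (Polynomial.aeval (ThetaS.zPow R 1) (Polynomial.monomial n (1 : R)))) =
      Polynomial.monomial n 1
    rw [Polynomial.aeval_monomial, map_one, _root_.one_mul, h1, ThetaS.zPow, MonoidAlgebra.coeff_single]
    simp only [r₀]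
    rw [Finsupp.linearCombination_single, one_smul, if_pos (by simp)]
    simp [Polynomial.monomial_one_right_eq_X_pow]
  have h2 : (LinearMap.rTensor A r) ∘ₗ (Algebra.TensorProduct.map (ThetaS.linePt (R := R) (ThetaS.zPow R 1))
      (AlgHom.id R A)).toLinearMap = LinearMap.id := by
    apply TensorProduct.ext'
    intro p a
    have h3 := LinearMap.congr_fun hr p
    simp only [LinearMap.comp_apply, AlgHom.toLinearMap_apply, LinearMap.id_apply] at h3
    simp [h3]
  intro x y hxy
  have hx := LinearMap.congr_fun h2 x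
  have hy := LinearMap.congr_fun h2 y
  simp only [LinearMap.comp_apply, AlgHom.toLinearMap_apply, LinearMap.id_apply] at hx hy
  rw [← hx, ← hy, hxy]

/-- Schematic density over an affine base. -/
theorem hom_ext_affine (A : Type u) [CommRing A] [Algebra R A] {X : Over (Spec (CommRingCat.of R))}
    [IsSeparated X.hom] (u v : ThetaS.Line R ⊗ CoactBr.sp R A ⟶ X)
    (h : (j R ▷ CoactBr.sp R A) ≫ u = (j R ▷ CoactBr.sp R A) ≫ v) : u = v := by
  have hL := isIso_lift_include (R := R) R[X] A
  let eL := lift (CoactBr.pt (Algebra.TensorProduct.includeLeft : R[X] →ₐ[R] R[X] ⊗[R] A))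
      (CoactBr.pt (Algebra.TensorProduct.includeRight : A →ₐ[R] R[X] ⊗[R] A))
  let eG := lift (CoactBr.pt (Algebra.TensorProduct.includeLeft :
        ThetaS.Lau R →ₐ[R] ThetaS.Lau R ⊗[R] A))
      (CoactBr.pt (Algebra.TensorProduct.includeRight : A →ₐ[R] ThetaS.Lau R ⊗[R] A))
  let m := Algebra.TensorProduct.map (ThetaS.linePt (R := R) (ThetaS.zPow R 1)) (AlgHom.id R A)
  have hsq : eG ≫ (j R ▷ CoactBr.sp R A) = CoactBr.pt m ≫ eL := by
    simp only [eG, eL]
    rw [lift_whiskerRight, comp_lift, ← CoactBr.pt_comp, ← CoactBr.pt_comp, ← CoactBr.pt_comp]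
    have h1 : (Algebra.TensorProduct.includeLeft : ThetaS.Lau R →ₐ[R] ThetaS.Lau R ⊗[R] A).comp
        (ThetaS.linePt (ThetaS.zPow R 1)) = m.comp Algebra.TensorProduct.includeLeft := by
      apply Polynomial.algHom_ext
      simp [m]
    have h2 : (Algebra.TensorProduct.includeRight : A →ₐ[R] ThetaS.Lau R ⊗[R] A) =
        m.comp Algebra.TensorProduct.includeRight := by
      ext a
      simp [m]
    rw [h1, ← h2]
  have hLu : eL ≫ u = eL ≫ v := by
    have h1 : CoactBr.pt m ≫ eL ≫ u = CoactBr.pt m ≫ eL ≫ v := by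
      rw [← Category.assoc, ← hsq, Category.assoc, h, ← Category.assoc, hsq, Category.assoc]
    have hdom : IsSchemeTheoreticallyDominant (CoactBr.pt m).left :=
      dominant_spec _ (injective_map A)
    have h2 := Groth.Agent.S2299.result (CoactBr.pt m).left X.hom (eL ≫ u).left (eL ≫ v).left
      (by rw [Over.w, Over.w]) (by
        rw [← Over.comp_left, ← Over.comp_left, h1])
    exact Over.OverMorphism.ext h2
  have : IsIso eL := hL
  exact (cancel_epi eL).mp hLu

/-- The property of objects over the base that morphisms out of `Line ⊗ T` to separated objects are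
determined on `Gm ⊗ T` is invariant under isomorphism. -/
theorem hom_ext_iso {T T' : Over (Spec (CommRingCat.of R))} (e : T ≅ T')
    {X : Over (Spec (CommRingCat.of R))}
    (hT' : ∀ u v : ThetaS.Line R ⊗ T' ⟶ X, (j R ▷ T') ≫ u = (j R ▷ T') ≫ v → u = v)
    (u v : ThetaS.Line R ⊗ T ⟶ X) (h : (j R ▷ T) ≫ u = (j R ▷ T) ≫ v) : u = v := by
  have h1 : (ThetaS.Line R ◁ e.inv) ≫ u = (ThetaS.Line R ◁ e.inv) ≫ v := by
    apply hT'
    rw [← Category.assoc, ← Category.assoc, ← whisker_exchange, Category.assoc, Category.assoc, h]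
  have : IsIso (ThetaS.Line R ◁ e.inv) := inferInstance
  exact (cancel_epi (ThetaS.Line R ◁ e.inv)).mp h1

/-- **Schematic density** of `Gm ⊗ T` in `Line ⊗ T`: morphisms to a separated object which agree on
the former are equal. -/
theorem hom_ext {T X : Over (Spec (CommRingCat.of R))} [IsSeparated X.hom]
    (u v : ThetaS.Line R ⊗ T ⟶ X) (h : (j R ▷ T) ≫ u = (j R ▷ T) ≫ v) : u = v := by
  let 𝒱 := T.left.affineOpenCover
  let 𝒰 := 𝒱.openCover
  let q : (ThetaS.Line R ⊗ T).left ⟶ T.left := (snd (ThetaS.Line R) T).left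
  apply Over.OverMorphism.ext
  refine Scheme.Cover.hom_ext (𝒰.pullback₁ q) _ _ fun i => ?_
  -- the chart of `T`
  let Ti : Over (Spec (CommRingCat.of R)) := Over.mk (𝒰.f i ≫ T.hom)
  let ti : Ti ⟶ T := Over.homMk (𝒰.f i)
  let Wi : Over (Spec (CommRingCat.of R)) :=
    Over.mk ((𝒰.pullback₁ q).f i ≫ (ThetaS.Line R ⊗ T).hom)
  let wi : Wi ⟶ ThetaS.Line R ⊗ T := Over.homMk ((𝒰.pullback₁ q).f i)
  let pi : Wi ⟶ Ti := Over.homMk (Limits.pullback.snd q (𝒰.f i)) (by
    change Limits.pullback.snd q (𝒰.f i) ≫ 𝒰.f i ≫ T.hom =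
      Limits.pullback.fst q (𝒰.f i) ≫ (ThetaS.Line R ⊗ T).hom
    rw [← Category.assoc, ← Limits.pullback.condition, Category.assoc]
    congr 1
    exact Over.w (snd (ThetaS.Line R) T))
  have hfac : wi = lift (wi ≫ fst _ _) pi ≫ (ThetaS.Line R ◁ ti) := by
    rw [lift_whiskerLeft]
    apply CartesianMonoidalCategory.hom_ext
    · rw [lift_fst]
    · rw [lift_snd]
      apply Over.OverMorphism.ext
      exact Limits.pullback.condition
  have hi : (ThetaS.Line R ◁ ti) ≫ u = (ThetaS.Line R ◁ ti) ≫ v := by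
    -- the chart is the spectrum of an algebra
    obtain ⟨φ, hφ⟩ := Spec.map_surjective (𝒱.f i ≫ T.hom)
    let _ : Algebra R (𝒱.X i) := φ.hom.toAlgebra
    let e : Ti ≅ CoactBr.sp R (𝒱.X i) := Over.isoMk (Iso.refl _) (by
      change 𝟙 _ ≫ Spec.map (CommRingCat.ofHom (algebraMap R (𝒱.X i))) = 𝒱.f i ≫ T.hom
      rw [Category.id_comp, ← hφ]
      rfl)
    refine hom_ext_iso e (fun u v h => hom_ext_affine (𝒱.X i) u v h) _ _ ?_
    rw [← Category.assoc, ← Category.assoc, ← whisker_exchange, Category.assoc, Category.assoc, h]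
  have hw : wi ≫ u = wi ≫ v := by
    rw [hfac, Category.assoc, Category.assoc, hi]
  exact congrArg CommaMorphism.left hw

end

end K979.LineDom
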