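import Groth.Agent.Instab.K979.Cvx

/-!
# The fan of a family of cones: Carathéodory decomposition and the comparison with the space of rays
-/

set_option autoImplicit false

open CategoryTheory Opposite Instab

namespace K979.Fan

open Instab.Fan

/-- The real vector of an integral vector. -/
def rv {N : ℕ} (g : Fin N → ℤ) : Fin N → ℝ := fun j => (g j : ℝ)

/-- Carathéodory for cones generated by integral vectors. -/
theorem caratheodory {N : ℕ} (m : ℕ) : ∀ (S : Finset (Fin N → ℤ)) (_ : S.card ≤ m)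
    (c : (Fin N → ℤ) → ℝ) (_ : ∀ g ∈ S, 0 ≤ c g),
    ∃ B ⊆ S, ∃ c' : (Fin N → ℤ) → ℝ, (∀ g ∈ B, 0 < c' g) ∧
      LinearIndependent ℤ (fun b : B => (b : Fin N → ℤ)) ∧
      ∑ g ∈ S, c g • rv g = ∑ g ∈ B, c' g • rv g := by
  classical
  induction m with
  | zero =>
    intro S hS c hc
    have : S = ∅ := Finset.card_eq_zero.mp (Nat.le_zero.mp hS)
    subst this
    exact ⟨∅, Finset.Subset.refl _, c, by simp, linearIndependent_empty_type, rfl⟩
  | succ m ih =>
    intro S hS c hc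
    by_cases hpos : ∀ g ∈ S, 0 < c g
    · by_cases hli : LinearIndependent ℤ (fun b : S => (b : Fin N → ℤ))
      · exact ⟨S, Finset.Subset.refl _, c, hpos, hli, rfl⟩
      · rw [Fintype.linearIndependent_iff] at hli
        push Not at hli
        obtain ⟨a, ha0, i₀, hi₀⟩ := hli
        -- extend the relation to all vectors, with some positive coefficient
        obtain ⟨b, hb0, g₀, hg₀, hbg₀⟩ : ∃ b : (Fin N → ℤ) → ℤ, ∑ g ∈ S, b g • g = 0 ∧
            ∃ g₀ ∈ S, 0 < b g₀ := by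
          have hsum : ∀ s : ℤ, ∑ g ∈ S, (if h : g ∈ S then s * a ⟨g, h⟩ else 0) • g = 0 := by
            intro s
            rw [← Finset.sum_coe_sort S]
            have : ∀ g : S, (if h : (g : Fin N → ℤ) ∈ S then s * a ⟨g, h⟩ else 0) • (g : Fin N → ℤ) =
                s • (a g • (g : Fin N → ℤ)) := by
              intro g
              rw [dif_pos g.2, smul_smul]
            rw [Finset.sum_congr rfl fun g _ => this g, ← Finset.smul_sum, ha0, smul_zero]
          rcases lt_or_gt_of_ne hi₀ with h | h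
          · refine ⟨fun g => if h : g ∈ S then (-1) * a ⟨g, h⟩ else 0, hsum (-1), i₀, i₀.2, ?_⟩
            simp only [i₀.2, dite_true]
            have h' : a ⟨(i₀ : Fin N → ℤ), i₀.2⟩ < 0 := h
            linarith
          · refine ⟨fun g => if h : g ∈ S then 1 * a ⟨g, h⟩ else 0, hsum 1, i₀, i₀.2, ?_⟩
            simp only [i₀.2, dite_true]
            have h' : 0 < a ⟨(i₀ : Fin N → ℤ), i₀.2⟩ := h
            linarith
        obtain ⟨g₁, hg₁, hmin⟩ := (S.filter fun g => 0 < b g).exists_min_image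
          (fun g => c g / (b g : ℝ)) ⟨g₀, by simp [hg₀, hbg₀]⟩
        have hg₁S : g₁ ∈ S := (Finset.mem_filter.mp hg₁).1
        have hbg₁ : (0 : ℝ) < b g₁ := by exact_mod_cast (Finset.mem_filter.mp hg₁).2
        let t : ℝ := c g₁ / (b g₁ : ℝ)
        have ht : 0 < t := div_pos (hpos g₁ hg₁S) hbg₁
        let c'' : (Fin N → ℤ) → ℝ := fun g => c g - t * b g
        have hc'' : ∀ g ∈ S, 0 ≤ c'' g := by
          intro g hg
          by_cases hb : 0 < b g
          · have h1 := hmin g (by simp [hg, hb])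
            have hb' : (0 : ℝ) < b g := by exact_mod_cast hb
            rw [le_div_iff₀ hb'] at h1
            simp only [c'', t]
            linarith
          · have hb' : (b g : ℝ) ≤ 0 := by exact_mod_cast not_lt.mp hb
            have h1 := hpos g hg
            have h2 : t * (b g : ℝ) ≤ 0 := mul_nonpos_of_nonneg_of_nonpos ht.le hb'
            simp only [c'']
            linarith
        have hc''₁ : c'' g₁ = 0 := by
          simp only [c'', t]
          field_simp
          ring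
        have hb0' : ∑ g ∈ S, (b g : ℝ) • rv g = 0 := by
          funext j
          have h1 := congrFun hb0 j
          simp only [Finset.sum_apply, Pi.smul_apply, smul_eq_mul, Pi.zero_apply] at h1
          simp only [Finset.sum_apply, Pi.smul_apply, smul_eq_mul, Pi.zero_apply, rv]
          exact_mod_cast h1
        have hsum : ∑ g ∈ S, c g • rv g = ∑ g ∈ S.erase g₁, c'' g • rv g := by
          have h1 : ∑ g ∈ S, c'' g • rv g = ∑ g ∈ S, c g • rv g := by
            have : ∀ g, c'' g • rv g = c g • rv g - t • ((b g : ℝ) • rv g) := by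
              intro g
              simp only [c'', sub_smul, smul_smul]
            rw [Finset.sum_congr rfl fun g _ => this g, Finset.sum_sub_distrib, ← Finset.smul_sum,
              hb0', smul_zero, sub_zero]
          rw [← h1, ← Finset.add_sum_erase S _ hg₁S, hc''₁, zero_smul, zero_add]
        obtain ⟨B, hB, c', h1, h2, h3⟩ := ih (S.erase g₁) (by
          have := Finset.card_erase_of_mem hg₁S
          omega) c'' (fun g hg => hc'' g (Finset.mem_of_mem_erase hg))
        exact ⟨B, hB.trans (Finset.erase_subset _ _), c', h1, h2, hsum.trans h3⟩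
    · push Not at hpos
      obtain ⟨g₁, hg₁S, hg₁⟩ := hpos
      have hc0 : c g₁ = 0 := le_antisymm hg₁ (hc g₁ hg₁S)
      obtain ⟨B, hB, c', h1, h2, h3⟩ := ih (S.erase g₁) (by
        have := Finset.card_erase_of_mem hg₁S
        omega) c (fun g hg => hc g (Finset.mem_of_mem_erase hg))
      refine ⟨B, hB.trans (Finset.erase_subset _ _), c', h1, h2, ?_⟩
      rw [← h3, ← Finset.add_sum_erase S _ hg₁S, hc0, zero_smul, zero_add]

variable {N : ℕ} {ι : Type} (K : ι → Set (Fin N → ℝ))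

/-- The cone generated by a finite set of integral vectors. -/
def genCone (S : Finset (Fin N → ℤ)) : Set (Fin N → ℝ) :=
  {x | ∃ c : (Fin N → ℤ) → ℝ, (∀ g, 0 ≤ c g) ∧ x = ∑ g ∈ S, c g • rv g}

/-- The cone of the fan attached to a linearly independent set of integral vectors. -/
theorem exists_cone_of_finset (B : Finset (Fin N → ℤ))
    (hB : LinearIndependent ℤ (fun b : B => (b : Fin N → ℤ))) (hne : B.Nonempty) (a : ι)
    (hBK : genCone B ⊆ K a) :
    ∃ e : Σ n : ICone, RFan.Cone K n, (∀ c : (Fin N → ℤ) → ℝ, (∀ g ∈ B, 0 < c g) →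
      ∃ v : Orth e.1, rmap e.2.1 v.1 = ∑ g ∈ B, c g • rv g) ∧
      ∀ v : Orth e.1, rmap e.2.1 v.1 ∈ K a := by
  classical
  let n : ICone := ⟨⟨B.card, hne.card_pos⟩⟩
  let eB : Fin n.dim ≃ B := B.equivFin.symm
  let φ : (Fin n.dim → ℤ) →ₗ[ℤ] (Fin N → ℤ) :=
    Fintype.linearCombination ℤ (fun i => (eB i : Fin N → ℤ))
  have hφ : ∀ v, φ v = ∑ i, v i • (eB i : Fin N → ℤ) := fun v => Fintype.linearCombination_apply ..
  have hli : LinearIndependent ℤ (fun i => (eB i : Fin N → ℤ)) := hB.comp eB eB.injective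
  have hinj : Function.Injective φ := by
    rw [← LinearMap.ker_eq_bot, LinearMap.ker_eq_bot']
    intro v hv
    rw [hφ] at hv
    exact funext fun i => Fintype.linearIndependent_iff.mp hli v hv i
  have hreal : ∀ v : Fin n.dim → ℝ, rmap φ v =
      ∑ g ∈ B, (if h : g ∈ B then v (eB.symm ⟨g, h⟩) else 0) • rv g := by
    intro v
    rw [← Finset.sum_coe_sort B, ← eB.sum_comp]
    funext j
    rw [rmap_apply, Finset.sum_apply]
    refine Finset.sum_congr rfl fun i _ => ?_
    rw [dif_pos (eB i).2]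
    have h1 : φ (Pi.single i 1) = (eB i : Fin N → ℤ) := by
      rw [hφ, Finset.sum_eq_single i]
      · simp
      · intro l _ hl; simp [Pi.single_eq_of_ne hl]
      · simp
    rw [h1]
    simp [rv, mul_comm]
  have hcone : ∀ v : Fin n.dim → ℝ, (∀ i, 0 ≤ v i) → rmap φ v ∈ K a := by
    intro v hv
    refine hBK ⟨fun g => if h : g ∈ B then v (eB.symm ⟨g, h⟩) else 0, fun g => ?_, hreal v⟩
    by_cases h : g ∈ B
    · simp only [h, dite_true]; exact hv _
    · simp [h]
  refine ⟨⟨n, φ, hinj, a, fun v hv => ?_⟩, ?_, fun v => hcone v.1 v.2.1⟩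
  · have h1 := hcone (fun i => (v i : ℝ)) (fun i => by exact_mod_cast hv i)
    rw [rmap_intCast] at h1
    exact h1
  · intro c hc
    have hn0 : (fun i => c (eB i : Fin N → ℤ)) ≠ (0 : Fin n.dim → ℝ) := by
      intro h
      have h1 := congrFun h ⟨0, n.dim.pos⟩
      have h2 := hc _ (eB ⟨0, n.dim.pos⟩).2
      rw [show c (eB ⟨0, n.dim.pos⟩ : Fin N → ℤ) = 0 from h1] at h2
      exact lt_irrefl _ h2
    refine ⟨⟨fun i => c (eB i : Fin N → ℤ), fun i => (hc _ (eB i).2).le, hn0⟩, ?_⟩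
    change rmap φ (fun i => c (eB i : Fin N → ℤ)) = _
    rw [hreal]
    refine Finset.sum_congr rfl fun g hg => ?_
    rw [dif_pos hg]
    simp

/-- Finitely many cones of the fan cover a polyhedral cone contained in `K a`. -/
theorem exists_finset_genCone (S : Finset (Fin N → ℤ)) (a : ι) (hSK : genCone S ⊆ K a) :
    ∃ t : Finset (Σ n : ICone, RFan.Cone K n), (∀ e ∈ t, ∀ v : Orth e.1, rmap e.2.1 v.1 ∈ K a) ∧
      ∀ w ∈ genCone S, w ≠ 0 → ∃ e ∈ t, ∃ v : Orth e.1, rmap e.2.1 v.1 = w := by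
  classical
  let good : Finset (Fin N → ℤ) → Prop := fun B => B ⊆ S ∧
    LinearIndependent ℤ (fun b : B => (b : Fin N → ℤ)) ∧ B.Nonempty
  have hsub : ∀ B, good B → genCone B ⊆ K a := by
    rintro B ⟨hB, -, -⟩ x ⟨c, hc, rfl⟩
    refine hSK ⟨fun g => if g ∈ B then c g else 0, fun g => ?_, ?_⟩
    · by_cases h : g ∈ B
      · simp [h, hc]
      · simp [h]
    · rw [← Finset.sum_subset hB]
      · exact Finset.sum_congr rfl fun g hg => by simp [hg]
      · intro g _ hg
        simp [hg]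
  have hex : ∀ B, good B → ∃ e : Σ n : ICone, RFan.Cone K n, (∀ c : (Fin N → ℤ) → ℝ,
      (∀ g ∈ B, 0 < c g) → ∃ v : Orth e.1, rmap e.2.1 v.1 = ∑ g ∈ B, c g • rv g) ∧
      ∀ v : Orth e.1, rmap e.2.1 v.1 ∈ K a := fun B hB =>
    exists_cone_of_finset K B hB.2.1 hB.2.2 a (hsub B hB)
  choose E hE using hex
  refine ⟨(S.powerset.filter good).attach.image
    (fun B => E B.1 (Finset.mem_filter.mp B.2).2), ?_, ?_⟩
  · intro e he v
    obtain ⟨B, hB, rfl⟩ := Finset.mem_image.mp he
    exact (hE B.1 (Finset.mem_filter.mp B.2).2).2 v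
  · rintro w ⟨c, hc, rfl⟩ hw
    obtain ⟨B, hBS, c', hc', hli, hsum⟩ := caratheodory S.card S le_rfl c (fun g _ => hc g)
    have hBne : B.Nonempty := by
      rw [Finset.nonempty_iff_ne_empty]
      rintro rfl
      rw [Finset.sum_empty] at hsum
      exact hw hsum
    have hgood : good B := ⟨hBS, hli, hBne⟩
    obtain ⟨v, hv⟩ := (hE B hgood).1 c' hc'
    exact ⟨E B hgood, Finset.mem_image.mpr ⟨⟨B, Finset.mem_filter.mpr
      ⟨Finset.mem_powerset.mpr hBS, hgood⟩⟩, Finset.mem_attach _ _, rfl⟩, v, hv.trans hsum.symm⟩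

/-- Finitely many cones of the fan cover `K a`. -/
theorem exists_finset_cone (a : ι) (hK : ∃ (m : ℕ) (gen : Fin m → Finset (Fin N → ℤ)),
      K a = Set.iUnion fun l => genCone (gen l)) :
    ∃ t : Finset (Σ n : ICone, RFan.Cone K n), ∀ w : Fin N → ℝ, w ≠ 0 →
      (w ∈ K a ↔ ∃ e ∈ t, ∃ v : Orth e.1, rmap e.2.1 v.1 = w) := by
  classical
  obtain ⟨m, gen, hgen⟩ := hK
  have h := fun l => exists_finset_genCone K (gen l) a (by
    rw [hgen]; exact Set.subset_iUnion (fun l => genCone (gen l)) l)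
  choose t ht1 ht2 using h
  refine ⟨Finset.univ.biUnion t, fun w hw => ⟨fun hwK => ?_, ?_⟩⟩
  · rw [hgen] at hwK
    obtain ⟨l, hl⟩ := Set.mem_iUnion.mp hwK
    obtain ⟨e, he, hv⟩ := ht2 l w hl hw
    exact ⟨e, Finset.mem_biUnion.mpr ⟨l, Finset.mem_univ _, he⟩, hv⟩
  · rintro ⟨e, he, v, rfl⟩
    obtain ⟨l, -, hl⟩ := Finset.mem_biUnion.mp he
    exact ht1 l e hl v

/-- Every real point of a cone of the fan lies in the family. -/
theorem rmap_mem (t : ι → Finset (Σ n : ICone, RFan.Cone K n))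
    (ht : ∀ a, ∀ w : Fin N → ℝ, w ≠ 0 → (w ∈ K a ↔ ∃ e ∈ t a, ∃ v : Orth e.1, rmap e.2.1 v.1 = w))
    {n : ICone} (φ : RFan.Cone K n) (v : Orth n) : ∃ a, rmap φ.1 v.1 ∈ K a := by
  obtain ⟨φ, hφ, a, ha⟩ := φ
  refine ⟨a, ?_⟩
  have hne : ∀ v : Orth n, rmap φ v.1 ≠ 0 := fun v h => v.2.2
    (rmap_injective φ hφ (h.trans (map_zero _).symm))
  have hcl : IsClosed {v : Orth n | rmap φ v.1 ∈ K a} := by
    have hC : ∀ e : Σ n : ICone, RFan.Cone K n, ∃ C : Set (Fin N → ℝ), IsClosed C ∧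
        ∀ w : Fin N → ℝ, w ≠ 0 → (w ∈ C ↔ ∃ v ∈ (Set.univ : Set (Orth e.1)), rmap e.2.1 v.1 = w) :=
      fun e => isClosed_image_punctured (rmap e.2.1) (rmap_injective _ e.2.2.1) _ isClosed_univ
    choose C hC1 hC2 using hC
    have : {v : Orth n | rmap φ v.1 ∈ K a} = ⋃ e ∈ t a, {v : Orth n | rmap φ v.1 ∈ C e} := by
      ext v
      simp only [Set.mem_ofPred_eq, Set.mem_iUnion, exists_prop]
      rw [ht a _ (hne v)]
      refine exists_congr fun e => and_congr_right fun _ => ?_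
      rw [hC2 e _ (hne v)]
      simp
    rw [this]
    refine isClosed_biUnion_finset fun e _ => (hC1 e).preimage ?_
    exact (LinearMap.continuous_of_finiteDimensional (rmap φ)).comp (continuous_val n)
  refine eq_univ_of_isClosed _ hcl ?_ v
  rintro w χ ⟨c, hc, hw⟩
  -- the integral vector of the ray
  have h1 : (omap χ (Orth.ones Fan.one)).1 = fun i => ((χ.toLin (fun _ => 1) i : ℤ) : ℝ) := by
    have h2 : (Orth.ones Fan.one).1 = fun _ => (((1 : ℤ)) : ℝ) := by
      funext i; simp [Orth.ones]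
    rw [omap_val, h2, rmap_intCast]
  have h3 := ha (χ.toLin (fun _ => 1)) (χ.nonneg _ (fun _ => zero_le_one))
  have h4 : rmap φ w.1 = c • (fun j => ((φ (χ.toLin fun _ => 1) j : ℤ) : ℝ)) := by
    rw [hw, map_smul, h1, rmap_intCast]
  have h5 : (fun j => ((φ (χ.toLin fun _ => 1) j : ℤ) : ℝ)) ≠ 0 := by
    intro h
    rw [h, smul_zero] at h4
    exact hne w h4
  rw [ht a _ h5] at h3
  obtain ⟨e, he, v', hv'⟩ := h3
  change rmap φ w.1 ∈ K a
  rw [ht a _ (hne w)]
  refine ⟨e, he, osmul c hc v', ?_⟩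
  rw [osmul_val, map_smul, hv', h4]

/-! ### The space of rays -/

theorem rays_mk_eq_iff {v w : {v : Fin N → ℝ // v ≠ 0}} :
    (Quot.mk _ v : Fan.Rays N) = Quot.mk _ w ↔ ∃ c : ℝ, 0 < c ∧ w.1 = c • v.1 := by
  constructor
  · intro h
    have h1 := Quot.eqvGen_exact h
    clear h
    induction h1 with
    | rel _ _ h => exact h
    | refl _ => exact ⟨1, one_pos, by simp⟩
    | symm x y _ ih =>
      obtain ⟨c, hc, h⟩ := ih
      exact ⟨c⁻¹, inv_pos.mpr hc, by rw [h, smul_smul, inv_mul_cancel₀ hc.ne', one_smul]⟩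
    | trans x y z h1 h2 ih1 ih2 =>
      obtain ⟨c, hc, h⟩ := ih1
      obtain ⟨d, hd, h'⟩ := ih2
      exact ⟨d * c, mul_pos hd hc, by rw [h', h, smul_smul]⟩
  · intro h
    exact Quot.sound h

/-- The ray of a nonzero vector. -/
def raymk (w : Fin N → ℝ) (h : w ≠ 0) : Fan.Rays N := Quot.mk _ ⟨w, h⟩

theorem raymk_eq_iff {v w : Fin N → ℝ} {hv : v ≠ 0} {hw : w ≠ 0} :
    raymk v hv = raymk w hw ↔ ∃ c : ℝ, 0 < c ∧ w = c • v := rays_mk_eq_iff

theorem raymk_congr {v w : Fin N → ℝ} {hv : v ≠ 0} {hw : w ≠ 0} (h : v = w) :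
    raymk v hv = raymk w hw := by subst h; rfl

theorem isClosed_rays_iff (S : Set (Fan.Rays N)) :
    IsClosed S ↔ IsClosed {w : {v : Fin N → ℝ // v ≠ 0} | raymk w.1 w.2 ∈ S} :=
  (isQuotientMap_quot_mk.isClosed_preimage (s := S)).symm

end K979.Fan
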