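import Groth.Agent.Instab.K979.Fan
import Mathlib.CategoryTheory.Limits.Types.Pullbacks
import Mathlib.CategoryTheory.Limits.Shapes.Pullback.IsPullback.Basic
import Mathlib.CategoryTheory.Limits.Preserves.FunctorCategory

/-!
# Formal fans: topology of the projective realization, pullbacks, bounded maps

Closedness criterion, closedness of the maps of punctured orthants, density of rational rays, cells of
fibre products, and the main properties of bounded maps and quasi-separated fans.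
-/

set_option autoImplicit false

universe u

open CategoryTheory Opposite Instab

namespace K979.Fan

open Instab.Fan

variable {F F' G : Fan.{u}}

/-! ### Topology -/

theorem continuous_mk {n : ICone} (ξ : F.obj (op n)) : Continuous (P.mk ξ) :=
  continuous_quot_mk.comp (continuous_sigmaMk (σ := fun e : (Σ n : ICone, F.obj (op n)) => Orth e.1)
    (i := (⟨n, ξ⟩ : Σ n : ICone, F.obj (op n))))

theorem isClosed_iff (S : Set (P F)) :
    IsClosed S ↔ ∀ (n : ICone) (ξ : F.obj (op n)), IsClosed {v : Orth n | P.mk ξ v ∈ S} := by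
  constructor
  · intro h n ξ
    exact h.preimage (continuous_mk ξ)
  · intro h
    have h1 : IsClosed ((fun p : Pt F => (Quot.mk _ p : P F)) ⁻¹' S) := by
      refine isClosed_sigma_iff.mpr ?_
      rintro ⟨n, ξ⟩
      exact h n ξ
    exact isQuotientMap_quot_mk.isClosed_preimage.mp h1

theorem isOpen_iff (S : Set (P F)) :
    IsOpen S ↔ ∀ (n : ICone) (ξ : F.obj (op n)), IsOpen {v : Orth n | P.mk ξ v ∈ S} := by
  constructor
  · intro h n ξ
    exact h.preimage (continuous_mk ξ)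
  · intro h
    have h1 : IsOpen ((fun p : Pt F => (Quot.mk _ p : P F)) ⁻¹' S) := by
      refine isOpen_sigma_iff.mpr ?_
      rintro ⟨n, ξ⟩
      exact h n ξ
    exact isQuotientMap_quot_mk.isOpen_preimage.mp h1

theorem continuous_P_map (f : F ⟶ G) : Continuous (P.map f) := by
  rw [continuous_iff_isClosed]
  intro S hS
  rw [isClosed_iff]
  intro n ξ
  exact hS.preimage (continuous_mk (f.app _ ξ))

theorem continuous_val (n : ICone) : Continuous (fun v : Orth n => v.1) := continuous_subtype_val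

theorem isInducing_val (n : ICone) : Topology.IsInducing (fun v : Orth n => v.1) :=
  Topology.IsInducing.subtypeVal

theorem continuous_omap {k n : ICone} (φ : k ⟶ n) : Continuous (omap φ) := by
  rw [(isInducing_val n).continuous_iff]
  exact (LinearMap.continuous_of_finiteDimensional (rmap φ.toLin)).comp (continuous_val k)

theorem continuous_osmul {n : ICone} (c : ℝ) (hc : 0 < c) : Continuous (osmul (n := n) c hc) := by
  rw [(isInducing_val n).continuous_iff]
  exact (continuous_val n).const_smul c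

/-- An injective linear map of the ambient spaces sends closed subsets of the punctured orthant to
closed subsets of the punctured space. -/
theorem isClosed_image_punctured {k : ICone} {N : ℕ} (L : (Fin k.dim → ℝ) →ₗ[ℝ] (Fin N → ℝ))
    (hL : Function.Injective L) (T : Set (Orth k)) (hT : IsClosed T) :
    ∃ C : Set (Fin N → ℝ), IsClosed C ∧ ∀ w : Fin N → ℝ, w ≠ 0 → (w ∈ C ↔ ∃ v ∈ T, L v.1 = w) := by
  obtain ⟨C₀, hC₀, hCT⟩ := (isInducing_val k).isClosed_iff.mp hT
  have hcl : Topology.IsClosedEmbedding L :=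
    LinearMap.isClosedEmbedding_of_injective (LinearMap.ker_eq_bot.mpr hL)
  refine ⟨L '' (C₀ ∩ {v | ∀ i, 0 ≤ v i}), ?_, fun w hw => ⟨?_, ?_⟩⟩
  · refine hcl.isClosedMap _ (hC₀.inter ?_)
    have : {v : Fin k.dim → ℝ | ∀ i, 0 ≤ v i} = ⋂ i, {v | 0 ≤ v i} := by ext; simp
    rw [this]
    exact isClosed_iInter fun i => isClosed_le continuous_const (continuous_apply i)
  · rintro ⟨v, ⟨hv1, hv2⟩, rfl⟩
    have hv0 : v ≠ 0 := by rintro rfl; exact hw (map_zero L)
    refine ⟨⟨v, hv2, hv0⟩, ?_, rfl⟩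
    rw [← hCT]
    exact hv1
  · rintro ⟨v, hv, rfl⟩
    refine ⟨v.1, ⟨?_, v.2.1⟩, rfl⟩
    rw [← hCT] at hv
    exact hv

theorem isClosed_image_omap {k n : ICone} (φ : k ⟶ n) (T : Set (Orth k)) (hT : IsClosed T) :
    IsClosed (omap φ '' T) := by
  obtain ⟨C, hC, h⟩ := isClosed_image_punctured (rmap φ.toLin) (rmap_injective _ φ.injective) T hT
  have : omap φ '' T = (fun v : Orth n => v.1) ⁻¹' C := by
    ext w
    rw [Set.mem_preimage, h w.1 w.2.2]
    constructor
    · rintro ⟨v, hv, rfl⟩; exact ⟨v, hv, rfl⟩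
    · rintro ⟨v, hv, e⟩; exact ⟨v, hv, Subtype.ext e⟩
  rw [this]
  exact hC.preimage (continuous_val n)

/-- The set of vectors on the rays of the image of a closed set of rays is closed. -/
theorem isClosed_ray_image {k n : ICone} (φ : k ⟶ n) (T : Set (Orth k)) (hT : IsClosed T)
    (hTr : ∀ v w : Orth k, Ray v w → w ∈ T → v ∈ T) :
    IsClosed {v : Orth n | ∃ y ∈ T, Ray v (omap φ y)} := by
  have : {v : Orth n | ∃ y ∈ T, Ray v (omap φ y)} = omap φ '' T := by
    ext v
    constructor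
    · rintro ⟨y, hy, c, hc, h⟩
      refine ⟨osmul c hc y, hTr _ y (Ray.osmul c hc y) hy, Subtype.ext ?_⟩
      rw [omap_osmul, osmul_val, h]
    · rintro ⟨y, hy, rfl⟩
      exact ⟨y, hy, Ray.refl _⟩
  rw [this]
  exact isClosed_image_omap φ T hT

/-! ### Rational rays -/

/-- The `1`-cone of a nonzero nonnegative integral vector. -/
def ray1 {n : ICone} (z : Fin n.dim → ℤ) (hz : ∀ i, 0 ≤ z i) (hz0 : z ≠ 0) : Fan.one ⟶ n where
  toLin := (LinearMap.toSpanSingleton ℤ _ z).comp (LinearMap.proj (0 : Fin (1 : ℕ+)))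
  injective := by
    intro v w h
    obtain ⟨i, hi⟩ : ∃ i, z i ≠ 0 := by
      by_contra h'
      push Not at h'
      exact hz0 (funext h')
    have h1 := congrFun h i
    simp only [LinearMap.comp_apply, LinearMap.proj_apply, LinearMap.toSpanSingleton_apply,
      Pi.smul_apply, smul_eq_mul] at h1
    have h2 := mul_right_cancel₀ hi h1
    funext j
    have hj : j = (0 : Fin (1 : ℕ+)) := Subsingleton.elim (α := Fin 1) _ _
    rw [hj]
    exact h2
  nonneg v hv j := mul_nonneg (hv _) (hz j)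

theorem omap_ray1 {n : ICone} (z : Fin n.dim → ℤ) (hz : ∀ i, 0 ≤ z i) (hz0 : z ≠ 0) :
    (omap (ray1 z hz hz0) (Orth.ones Fan.one)).1 = fun i => (z i : ℝ) := by
  have h1 : (Orth.ones Fan.one).1 = fun _ => (((1 : ℤ)) : ℝ) := by
    funext i; simp [Orth.ones]
  rw [omap_val, h1, rmap_intCast]
  funext j
  congr 1
  change ((1 : ℤ) • z) j = z j
  rw [one_smul]

/-- Rational rays are dense in the punctured orthant. -/
theorem exists_rational_ray {n : ICone} (O : Set (Orth n)) (hO : IsOpen O) (hne : O.Nonempty) :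
    ∃ v ∈ O, ∃ φ : Fan.one ⟶ n, Ray v (omap φ (Orth.ones Fan.one)) := by
  obtain ⟨w, hw⟩ := hne
  obtain ⟨U, hU, hUO⟩ := (isInducing_val n).isOpen_iff.mp hO
  have hwU : w.1 ∈ U := by rw [← hUO] at hw; exact hw
  obtain ⟨ε, hε, hball⟩ := Metric.isOpen_iff.mp hU w.1 hwU
  have hq : ∀ i, ∃ q : ℚ, w.1 i < q ∧ (q : ℝ) < w.1 i + ε := fun i =>
    exists_rat_btwn (by linarith)
  choose q hq1 hq2 using hq
  have hqpos : ∀ i, 0 < q i := fun i => by
    have := (w.2.1 i).trans_lt (hq1 i)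
    exact_mod_cast this
  have hi0 : Nonempty (Fin n.dim) := ⟨⟨0, n.dim.pos⟩⟩
  obtain ⟨N, z, hN, hz⟩ := K979.Rat.exists_common_denom q
  have hN' : (0 : ℚ) < N := by exact_mod_cast hN
  have hzpos : ∀ i, 0 < z i := fun i => by
    have : (0 : ℚ) < z i := by rw [hz i]; exact mul_pos hN' (hqpos i)
    exact_mod_cast this
  have hz0 : z ≠ 0 := fun h => by
    have := hzpos (Classical.arbitrary _)
    rw [h] at this
    exact lt_irrefl _ this
  refine ⟨⟨fun i => (q i : ℝ), fun i => Rat.cast_nonneg.mpr (hqpos i).le, fun h => ?_⟩, ?_,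
    ray1 z (fun i => (hzpos i).le) hz0, ((N : ℝ)⁻¹), by positivity, ?_⟩
  · have h1 := congrFun h (Classical.arbitrary _)
    have h2 := hqpos (Classical.arbitrary _)
    simp only [Pi.zero_apply, Rat.cast_eq_zero] at h1
    rw [h1] at h2
    exact lt_irrefl _ h2
  · rw [← hUO]
    refine hball ?_
    rw [Metric.mem_ball, dist_pi_lt_iff hε]
    intro i
    rw [Real.dist_eq, abs_lt]
    constructor
    · have := hq1 i; linarith
    · have := hq2 i; linarith
  · rw [omap_ray1]
    funext i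
    have h1 : ((z i : ℤ) : ℝ) = (N : ℝ) * (q i : ℝ) := by exact_mod_cast hz i
    simp only [Pi.smul_apply, smul_eq_mul, h1]
    have : (N : ℝ) ≠ 0 := by positivity
    field_simp

theorem isRational_mk_of_ray {n : ICone} (ξ : F.obj (op n)) (v : Orth n) (φ : Fan.one ⟶ n)
    (h : Ray v (omap φ (Orth.ones Fan.one))) : (P.mk ξ v).IsRational :=
  ⟨F.map φ.op ξ, by rw [P_mk_map]; exact P_mk_ray ξ h⟩

/-- Two closed conditions... a closed set of an orthant containing all the rational rays is everything. -/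
theorem eq_univ_of_isClosed {n : ICone} (S : Set (Orth n)) (hS : IsClosed S)
    (h : ∀ v : Orth n, ∀ φ : Fan.one ⟶ n, Ray v (omap φ (Orth.ones Fan.one)) → v ∈ S) (v : Orth n) :
    v ∈ S := by
  by_contra hv
  obtain ⟨w, hw, φ, hφ⟩ := exists_rational_ray Sᶜ hS.isOpen_compl ⟨v, hv⟩
  exact hw (h w φ hφ)

/-! ### Cones of fibre products -/

theorem exists_pullback (f : F ⟶ G) (g : F' ⟶ G) {k : ICone} (a : F.obj (op k))
    (b : F'.obj (op k)) (h : f.app _ a = g.app _ b) :
    ∃ c : (Limits.pullback f g).obj (op k), (Limits.pullback.fst f g).app _ c = a ∧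
      (Limits.pullback.snd f g).app _ c = b :=
  Limits.Types.exists_of_isPullback
    (Functor.map_isPullback ((evaluation _ _).obj (op k)) (IsPullback.of_hasPullback f g)) a b h

theorem pullback_condition_app (f : F ⟶ G) (g : F' ⟶ G) {k : ICone}
    (c : (Limits.pullback f g).obj (op k)) :
    f.app _ ((Limits.pullback.fst f g).app _ c) = g.app _ ((Limits.pullback.snd f g).app _ c) := by
  have h : (Limits.pullback.fst f g ≫ f).app (op k) c = (Limits.pullback.snd f g ≫ g).app (op k) c := by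
    rw [Limits.pullback.condition]
  exact h

/-- A cone morphism as a cone of the representable fan. -/
def ymk {k n : ICone} (φ : k ⟶ n) : (uliftYoneda.{u}.obj n).obj (op k) := ULift.up φ

@[simp] theorem ymk_down {k n : ICone} (φ : k ⟶ n) : (ymk.{u} φ).down = φ := rfl

theorem coneMap_app {k n : ICone} (σ : F.obj (op n)) (φ : k ⟶ n) :
    (coneMap σ).app (op k) (ymk φ) = F.map φ.op σ := rfl

theorem map_id_apply {n : ICone} (ξ : F.obj (op n)) : F.map (𝟙 n : n ⟶ n).op ξ = ξ := by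
  rw [op_id, F.map_id]; rfl

theorem coneMap_id {n : ICone} (ξ : F.obj (op n)) :
    (coneMap ξ).app (op n) (ymk (𝟙 n)) = ξ := by
  rw [coneMap_app, map_id_apply]

theorem coneMap_app' {k n : ICone} (σ : F.obj (op n)) (φ : (uliftYoneda.{u}.obj n).obj (op k)) :
    (coneMap σ).app (op k) φ = F.map φ.down.op σ := rfl

/-- Points of the projective realization of a representable fan. -/
theorem yoneda_mk_eq_iff {k₁ k₂ n : ICone} (φ₁ : (uliftYoneda.{u}.obj n).obj (op k₁))
    (φ₂ : (uliftYoneda.{u}.obj n).obj (op k₂)) (v₁ : Orth k₁) (v₂ : Orth k₂) :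
    (P.mk φ₁ v₁ : P (uliftYoneda.{u}.obj n)) = P.mk φ₂ v₂ ↔
      Ray (omap φ₁.down v₁) (omap φ₂.down v₂) := by
  rw [P_mk_eq_mk_iff]
  constructor
  · rintro ⟨k, ψ₁, ψ₂, y, e, h1, h2⟩
    have e' : ψ₁ ≫ φ₁.down = ψ₂ ≫ φ₂.down := congrArg ULift.down e
    have h3 := h1.omap φ₁.down
    have h4 := h2.omap φ₂.down
    rw [← omap_comp] at h3 h4
    rw [e'] at h3
    exact h3.trans h4.symm
  · intro h
    obtain ⟨k, ψ₁, ψ₂, y, e, h1, h2⟩ := exists_refine_ray φ₁.down φ₂.down v₁ v₂ h
    exact ⟨k, ψ₁, ψ₂, y, congrArg ULift.up e, h1, h2⟩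

/-- Lifting of pairs of points to the fibre product. -/
theorem exists_P_pullback_lift (f : F ⟶ G) (g : F' ⟶ G) (x : P F) (x' : P F')
    (h : P.map f x = P.map g x') :
    ∃ y : P (Limits.pullback f g),
      P.map (Limits.pullback.fst f g) y = x ∧ P.map (Limits.pullback.snd f g) y = x' := by
  obtain ⟨n, ξ, v, rfl⟩ := P_ind x
  obtain ⟨n', ξ', v', rfl⟩ := P_ind x'
  rw [P_map_mk, P_map_mk, P_mk_eq_mk_iff] at h
  obtain ⟨k, φ, φ', y, e, h1, h2⟩ := h
  have e' : f.app _ (F.map φ.op ξ) = g.app _ (F'.map φ'.op ξ') := by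
    rw [NatTrans.naturality_apply, NatTrans.naturality_apply]
    exact e
  obtain ⟨c, hc1, hc2⟩ := exists_pullback f g _ _ e'
  refine ⟨P.mk c y, ?_, ?_⟩
  · rw [P_map_mk, hc1, P_mk_map]
    exact (P_mk_ray ξ h1).symm
  · rw [P_map_mk, hc2, P_mk_map]
    exact (P_mk_ray ξ' h2).symm

/-- The finite set of sub-cones computing the base change of a bounded map along a cone. -/
theorem IsBoundedMap.exists_finset {ψ : F ⟶ G} (hψ : IsBoundedMap ψ) (n : ICone) (ξ : G.obj (op n)) :
    ∃ s : Finset (Σ k : ICone, F.obj (op k) × (k ⟶ n)),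
      (∀ e ∈ s, ψ.app _ e.2.1 = G.map e.2.2.op ξ) ∧
      ∀ (x : P F) (v : Orth n), P.map ψ x = P.mk ξ v ↔
        ∃ e ∈ s, ∃ y : Orth e.1, x = P.mk e.2.1 y ∧ Ray v (omap e.2.2 y) := by
  classical
  obtain ⟨s, hs⟩ := hψ n ξ
  refine ⟨s.image fun e => ⟨e.1, (Limits.pullback.fst ψ (coneMap ξ)).app _ e.2,
    ((Limits.pullback.snd ψ (coneMap ξ)).app _ e.2).down⟩, ?_, ?_⟩
  · intro e he
    obtain ⟨e, he, rfl⟩ := Finset.mem_image.mp he
    exact pullback_condition_app ψ (coneMap ξ) e.2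
  · intro x v
    constructor
    · intro h
      have h' : P.map ψ x = P.map (coneMap ξ) (P.mk (ymk (𝟙 n)) v) := by
        rw [P_map_mk, coneMap_id]
        exact h
      obtain ⟨z, hz1, hz2⟩ := exists_P_pullback_lift ψ (coneMap ξ) x _ h'
      obtain ⟨e, he, y, rfl⟩ := hs z
      refine ⟨_, Finset.mem_image_of_mem _ he, y, hz1.symm, ?_⟩
      rw [P_map_mk, yoneda_mk_eq_iff] at hz2
      have h3 := hz2.symm
      rw [ymk_down, omap_id] at h3
      exact h3
    · rintro ⟨e, he, y, rfl, h⟩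
      obtain ⟨e, he, rfl⟩ := Finset.mem_image.mp he
      rw [P_map_mk, P_mk_ray ξ h, ← P_mk_map]
      congr 1
      exact pullback_condition_app ψ (coneMap ξ) e.2

/-- The finite set of pairs of sub-cones computing the gluing of two cones of a quasi-separated fan. -/
theorem IsQuasiSeparated.exists_finset (hG : G.IsQuasiSeparated)
    {n n' : ICone} (ξ : G.obj (op n)) (ξ' : G.obj (op n')) :
    ∃ s : Finset (Σ k : ICone, (k ⟶ n) × (k ⟶ n')),
      (∀ e ∈ s, G.map e.2.1.op ξ = G.map e.2.2.op ξ') ∧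
      ∀ (v : Orth n) (w : Orth n'), P.mk ξ v = P.mk ξ' w ↔
        ∃ e ∈ s, ∃ y : Orth e.1, Ray v (omap e.2.1 y) ∧ Ray w (omap e.2.2 y) := by
  classical
  obtain ⟨s, hs⟩ := hG n n' ξ ξ'
  refine ⟨s.image fun e => ⟨e.1, ((Limits.pullback.fst (coneMap ξ) (coneMap ξ')).app _ e.2).down,
    ((Limits.pullback.snd (coneMap ξ) (coneMap ξ')).app _ e.2).down⟩, ?_, ?_⟩
  · intro e he
    obtain ⟨e, he, rfl⟩ := Finset.mem_image.mp he
    exact pullback_condition_app (coneMap ξ) (coneMap ξ') e.2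
  · intro v w
    constructor
    · intro h
      have h' : P.map (coneMap ξ) (P.mk (ymk (𝟙 n)) v) =
          P.map (coneMap ξ') (P.mk (ymk (𝟙 n')) w) := by
        rw [P_map_mk, P_map_mk, coneMap_id, coneMap_id]
        exact h
      obtain ⟨z, hz1, hz2⟩ := exists_P_pullback_lift _ _ _ _ h'
      obtain ⟨e, he, y, rfl⟩ := hs z
      refine ⟨_, Finset.mem_image_of_mem _ he, y, ?_, ?_⟩
      · rw [P_map_mk, yoneda_mk_eq_iff] at hz1
        have h3 := hz1.symm
        rw [ymk_down, omap_id] at h3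
        exact h3
      · rw [P_map_mk, yoneda_mk_eq_iff] at hz2
        have h3 := hz2.symm
        rw [ymk_down, omap_id] at h3
        exact h3
    · rintro ⟨e, he, y, h1, h2⟩
      obtain ⟨e, he, rfl⟩ := Finset.mem_image.mp he
      rw [P_mk_ray ξ h1, P_mk_ray ξ' h2, ← P_mk_map, ← P_mk_map]
      congr 1
      exact pullback_condition_app (coneMap ξ) (coneMap ξ') e.2

/-- The set of vectors whose points lie in a given set of `P F` is stable under rescaling. -/
theorem mem_of_ray {n : ICone} (ξ : F.obj (op n)) (S : Set (P F)) {v w : Orth n} (h : Ray v w)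
    (hw : P.mk ξ w ∈ S) : P.mk ξ v ∈ S := by
  rw [P_mk_ray ξ h]; exact hw

/-- Bounded maps are closed. -/
theorem IsBoundedMap.isClosedMap {ψ : F ⟶ G} (hψ : IsBoundedMap ψ) : IsClosedMap (P.map ψ) := by
  intro S hS
  rw [isClosed_iff]
  intro n ξ
  obtain ⟨s, -, hs⟩ := IsBoundedMap.exists_finset hψ n ξ
  have : {v : Orth n | P.mk ξ v ∈ P.map ψ '' S} =
      ⋃ e ∈ s, {v : Orth n | ∃ y ∈ {y : Orth e.1 | P.mk e.2.1 y ∈ S}, Ray v (omap e.2.2 y)} := by
    ext v
    simp only [Set.mem_ofPred_eq, Set.mem_image, Set.mem_iUnion, exists_prop]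
    constructor
    · rintro ⟨x, hx, h⟩
      obtain ⟨e, he, y, rfl, h2⟩ := (hs x v).mp h
      exact ⟨e, he, y, hx, h2⟩
    · rintro ⟨e, he, y, hy, h2⟩
      exact ⟨_, hy, (hs _ v).mpr ⟨e, he, y, rfl, h2⟩⟩
  rw [this]
  refine isClosed_biUnion_finset fun e _ => isClosed_ray_image e.2.2 _ ?_ ?_
  · exact hS.preimage (continuous_mk e.2.1)
  · intro v w h hw
    exact mem_of_ray e.2.1 S h hw

/-- In a quasi-separated fan, the locus where two cones over the same orthant agree is closed. -/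
theorem IsQuasiSeparated.isClosed_eqLocus (hG : G.IsQuasiSeparated) {n n' : ICone}
    (ξ : G.obj (op n)) (ξ' : G.obj (op n')) (S : Set (Orth n)) (hS : IsClosed S)
    (hSr : ∀ v w : Orth n, Ray v w → w ∈ S → v ∈ S) :
    IsClosed {w : Orth n' | ∃ v ∈ S, P.mk ξ' w = P.mk ξ v} := by
  obtain ⟨s, -, hs⟩ := IsQuasiSeparated.exists_finset hG ξ ξ'
  have : {w : Orth n' | ∃ v ∈ S, P.mk ξ' w = P.mk ξ v} =
      ⋃ e ∈ s, {w : Orth n' | ∃ y ∈ omap e.2.1 ⁻¹' S, Ray w (omap e.2.2 y)} := by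
    ext w
    simp only [Set.mem_ofPred_eq, Set.mem_iUnion, exists_prop, Set.mem_preimage]
    constructor
    · rintro ⟨v, hv, h⟩
      obtain ⟨e, he, y, h1, h2⟩ := (hs v w).mp h.symm
      exact ⟨e, he, y, hSr _ _ h1.symm hv, h2⟩
    · rintro ⟨e, he, y, hy, h2⟩
      exact ⟨_, hy, ((hs _ w).mpr ⟨e, he, y, Ray.refl _, h2⟩).symm⟩
  rw [this]
  refine isClosed_biUnion_finset fun e _ => isClosed_ray_image e.2.2 _ ?_ ?_
  · exact hS.preimage (continuous_omap e.2.1)
  · intro v w h hw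
    exact hSr _ _ (h.omap e.2.1) hw

/-- In a quasi-separated fan rational simplices are closed maps. -/
theorem IsQuasiSeparated.isClosed_image (hG : G.IsQuasiSeparated) {n : ICone}
    (ξ : G.obj (op n)) (S : Set (Orth n)) (hS : IsClosed S)
    (hSr : ∀ v w : Orth n, Ray v w → w ∈ S → v ∈ S) : IsClosed (P.mk ξ '' S) := by
  rw [isClosed_iff]
  intro n' ξ'
  have : {w : Orth n' | P.mk ξ' w ∈ P.mk ξ '' S} = {w : Orth n' | ∃ v ∈ S, P.mk ξ' w = P.mk ξ v} := by
    ext w
    exact ⟨fun ⟨v, hv, h⟩ => ⟨v, hv, h.symm⟩, fun ⟨v, hv, h⟩ => ⟨v, hv, h.symm⟩⟩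
  rw [this]
  exact IsQuasiSeparated.isClosed_eqLocus hG ξ ξ' S hS hSr

end K979.Fan
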