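import Groth.Agent.Instab.K979.Top
import Mathlib.Analysis.Normed.Group.Constructions

/-!
# Formal fans: the ray relation is closed; Hausdorff-type lemmas for quasi-separated fans
-/

set_option autoImplicit false

universe u

open CategoryTheory Opposite Instab

namespace K979.Fan

open Instab.Fan

variable {F F' G : Fan.{u}}

theorem norm_pos_orth {n : ICone} (v : Orth n) : 0 < ‖v.1‖ := norm_pos_iff.mpr v.2.2

theorem ray_iff_norm {n : ICone} (v w : Orth n) : Ray v w ↔ ‖w.1‖ • v.1 = ‖v.1‖ • w.1 := by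
  constructor
  · rintro ⟨c, hc, h⟩
    rw [h, norm_smul, smul_smul, Real.norm_eq_abs, abs_of_pos hc, mul_comm]
  · intro h
    refine ⟨‖w.1‖⁻¹ * ‖v.1‖, mul_pos (inv_pos.mpr (norm_pos_orth w)) (norm_pos_orth v), ?_⟩
    rw [← smul_smul, ← h, smul_smul, inv_mul_cancel₀ (norm_pos_orth w).ne', one_smul]

theorem isClosed_ray {X : Type*} [TopologicalSpace X] {n : ICone} {f g : X → Orth n}
    (hf : Continuous f) (hg : Continuous g) : IsClosed {x | Ray (f x) (g x)} := by
  have : {x | Ray (f x) (g x)} = {x | ‖(g x).1‖ • (f x).1 = ‖(f x).1‖ • (g x).1} := by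
    ext x
    exact ray_iff_norm _ _
  rw [this]
  have hf' := (continuous_val n).comp hf
  have hg' := (continuous_val n).comp hg
  exact isClosed_eq (hg'.norm.smul hf') (hf'.norm.smul hg')

theorem isClosed_ray_locus {k n : ICone} (φ φ' : k ⟶ n) :
    IsClosed {z : Orth k | Ray (omap φ z) (omap φ' z)} :=
  isClosed_ray (continuous_omap φ) (continuous_omap φ')

/-- In a quasi-separated fan, the locus of agreement of two cones over the same orthant is closed. -/
theorem IsQuasiSeparated.isClosed_agree (hF : F.IsQuasiSeparated) {k : ICone} (a b : F.obj (op k)) :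
    IsClosed {y : Orth k | P.mk a y = P.mk b y} := by
  obtain ⟨s, -, hs⟩ := IsQuasiSeparated.exists_finset hF a b
  have hpair : {y : Orth k | P.mk a y = P.mk b y} = ⋃ e ∈ s, {y : Orth k | ∃ z : Orth e.1,
      Ray y (omap e.2.1 z) ∧ Ray y (omap e.2.2 z)} := by
    ext y
    simp only [Set.mem_ofPred_eq, Set.mem_iUnion, exists_prop]
    exact hs y y
  rw [hpair]
  refine isClosed_biUnion_finset fun e _ => ?_
  have h3 : {y : Orth k | ∃ z : Orth e.1, Ray y (omap e.2.1 z) ∧ Ray y (omap e.2.2 z)} =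
      {y : Orth k | ∃ z ∈ {z : Orth e.1 | Ray (omap e.2.1 z) (omap e.2.2 z)},
          Ray y (omap e.2.1 z)} := by
    ext y
    exact ⟨fun ⟨z, h4, h5⟩ => ⟨z, h4.symm.trans h5, h4⟩,
      fun ⟨z, h4, h5⟩ => ⟨z, h5, h5.trans h4⟩⟩
  rw [h3]
  refine isClosed_ray_image e.2.1 _ ?_ ?_
  · exact isClosed_ray_locus e.2.1 e.2.2
  · intro v w h4 h5
    exact ((h4.omap e.2.1).trans h5).trans (h4.omap e.2.2).symm

/-- Points of a quasi-separated fan are closed. -/
theorem IsQuasiSeparated.isClosed_singleton (hF : F.IsQuasiSeparated) (x : P F) :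
    IsClosed ({x} : Set (P F)) := by
  obtain ⟨n, ξ, v, rfl⟩ := P_ind x
  have h := IsQuasiSeparated.isClosed_image hF ξ {w | Ray w v}
    (isClosed_ray continuous_id continuous_const) (fun _ _ h1 h2 => h1.trans h2)
  have h2 : P.mk ξ '' {w | Ray w v} = {P.mk ξ v} := by
    ext x
    constructor
    · rintro ⟨w, hw, rfl⟩
      exact P_mk_ray ξ hw
    · intro hx
      rw [Set.mem_singleton_iff] at hx
      subst hx
      exact ⟨v, Ray.refl v, rfl⟩
  rw [← h2]
  exact h

end K979.Fan
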