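import Mathlib.AlgebraicGeometry.ValuativeCriterion
import Mathlib.AlgebraicGeometry.Morphisms.FiniteType

/-!
# Valuative criterion and compactness of closures of points

For a morphism locally of finite type satisfying the valuative criterion, the closure of a point meets the
preimage of an affine open in a compact set: the limit of an ultrafilter is found by lifting the
ultraproduct of valuation rings of the residue field dominating the local rings.
-/

set_option autoImplicit false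

universe u

open CategoryTheory CategoryTheory.Limits AlgebraicGeometry IsLocalRing

namespace K979.ValCpt

theorem factor {X : Scheme.{u}} {R : CommRingCat.{u}} [IsLocalRing R] (g : Spec R ⟶ X) {U : X.Opens}
    (hU : IsAffineOpen U) (h : g (closedPoint R) ∈ U) :
    Spec.map (X.presheaf.germ U _ h ≫ Scheme.stalkClosedPointTo g) ≫ hU.fromSpec = g := by
  rw [Spec.map_comp, Category.assoc]
  have h1 := hU.fromSpecStalk_eq_fromSpecStalk h
  rw [IsAffineOpen.fromSpecStalk] at h1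
  rw [h1, Scheme.Spec_stalkClosedPointTo_fromSpecStalk]

theorem apply_mem {X : Scheme.{u}} {R : CommRingCat.{u}} {U : X.Opens}
    (hU : IsAffineOpen U) (φ : Γ(X, U) ⟶ R) (x : Spec R) :
    (Spec.map φ ≫ hU.fromSpec) x ∈ U := by
  have h : (Spec.map φ ≫ hU.fromSpec) x ∈ Set.range hU.fromSpec := ⟨Spec.map φ x, by simp⟩
  rw [hU.range_fromSpec] at h
  exact h

/-- Two morphisms `Spec R ⟶ X` through an affine open given by the same ring map. -/
theorem hom_eq {X : Scheme.{u}} {R : CommRingCat.{u}} {U : X.Opens}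
    (hU : IsAffineOpen U) (φ ψ : Γ(X, U) ⟶ R)
    (h : Spec.map φ ≫ hU.fromSpec = Spec.map ψ ≫ hU.fromSpec) : φ = ψ := by
  rw [cancel_mono] at h
  exact Spec.map_injective h

/-- The valuation ring attached to an ultrafilter of valuation rings. -/
def ultraRing {K : Type*} [Field K] {ι : Type*} (𝒰 : Ultrafilter ι) (V : ι → ValuationSubring K) :
    ValuationSubring K where
  carrier := {a | ∀ᶠ i in 𝒰, a ∈ V i}
  mul_mem' {a b} ha hb := by
    filter_upwards [ha, hb] with i h1 h2 using (V i).mul_mem _ _ h1 h2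
  one_mem' := Filter.Eventually.of_forall fun i => (V i).one_mem
  add_mem' {a b} ha hb := by
    filter_upwards [ha, hb] with i h1 h2 using (V i).add_mem _ _ h1 h2
  zero_mem' := Filter.Eventually.of_forall fun i => (V i).zero_mem
  neg_mem' {a} ha := by
    filter_upwards [ha] with i h1 using (V i).neg_mem _ h1
  mem_or_inv_mem' a := by
    have h : ∀ᶠ i in 𝒰, a ∈ V i ∨ a⁻¹ ∈ V i :=
      Filter.Eventually.of_forall fun i => (V i).mem_or_inv_mem a
    exact Ultrafilter.eventually_or.mp h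

theorem mem_ultraRing {K : Type*} [Field K] {ι : Type*} (𝒰 : Ultrafilter ι)
    (V : ι → ValuationSubring K) (a : K) : a ∈ ultraRing 𝒰 V ↔ ∀ᶠ i in 𝒰, a ∈ V i := Iff.rfl

theorem isCompact_inter_closure {X Y : Scheme.{u}} (f : X ⟶ Y) [LocallyOfFiniteType f]
    (hf : ValuativeCriterion f) (ξ : X) {V : Y.Opens} (hV : IsAffineOpen V) :
    IsCompact (((f ⁻¹ᵁ V : X.Opens) : Set X) ∩ closure {ξ}) := by
  classical
  rw [isCompact_iff_ultrafilter_le_nhds']
  intro 𝒰 h𝒰
  have hξV : ξ ∈ f ⁻¹ᵁ V := by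
    obtain ⟨x, hx, hx'⟩ := 𝒰.nonempty_of_mem h𝒰
    exact (specializes_iff_mem_closure.mpr hx').mem_open (f ⁻¹ᵁ V).2 hx
  let κ : Type u := X.residueField ξ
  let η : Spec (CommRingCat.of κ) ⟶ X := X.fromSpecResidueField ξ
  -- evaluation at `ξ` of sections over opens containing `ξ`
  let ev : ∀ U : X.Opens, ξ ∈ U → (Γ(X, U) ⟶ CommRingCat.of κ) := fun U hU =>
    X.presheaf.germ U ξ hU ≫ X.residue ξ
  have hev : ∀ (U : X.Opens) (hU : IsAffineOpen U) (h : ξ ∈ U),
      Spec.map (ev U h) ≫ hU.fromSpec = η := by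
    intro U hU h
    simp only [ev, η, Scheme.fromSpecResidueField]
    rw [Spec.map_comp, Category.assoc, ← hU.fromSpecStalk_eq_fromSpecStalk h,
      IsAffineOpen.fromSpecStalk]
  -- the map from the sections over `V`
  let ρ : Γ(Y, V) ⟶ CommRingCat.of κ := f.app V ≫ ev (f ⁻¹ᵁ V) hξV
  have hρev : ∀ (U : X.Opens) (h : ξ ∈ U) (e : U ≤ f ⁻¹ᵁ V), f.appLE V U e ≫ ev U h = ρ := by
    intro U h e
    simp only [ρ, ev, Scheme.Hom.appLE, Category.assoc]
    rw [X.presheaf.germ_res_assoc]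
  obtain ⟨U₀, hU₀, hξU₀, hU₀V'⟩ := exists_isAffineOpen_mem_and_subset (U := f ⁻¹ᵁ V) (x := ξ) hξV
  have hU₀V : U₀ ≤ f ⁻¹ᵁ V := fun x hx => hU₀V' hx
  have hρ : Spec.map ρ ≫ hV.fromSpec = η ≫ f := by
    rw [← hρev U₀ hξU₀ hU₀V, Spec.map_comp, Category.assoc, hV.SpecMap_appLE_fromSpec f hU₀,
      ← Category.assoc, hev U₀ hU₀ hξU₀]
  -- valuation rings dominating the local rings
  have hdom : ∀ x : X, ∃ W : ValuationSubring κ, ∀ h : ξ ⤳ x,
      ∃ h' : ∀ q : X.presheaf.stalk x, (X.presheaf.stalkSpecializes h ≫ X.residue ξ).hom q ∈ W,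
        IsLocalHom ((X.presheaf.stalkSpecializes h ≫ X.residue ξ).hom.codRestrict W.toSubring h') := by
    intro x
    by_cases h : ξ ⤳ x
    · obtain ⟨W, hW, hWl⟩ := exists_factor_valuationRing (K := κ)
        (X.presheaf.stalkSpecializes h ≫ X.residue ξ).hom
      exact ⟨W, fun _ => ⟨hW, hWl⟩⟩
    · exact ⟨⊤, fun h' => absurd h' h⟩
  choose W hW using hdom
  -- sections over an open containing `x` are integral at `W x`
  have hWsec : ∀ (x : X) (h : ξ ⤳ x) (U : X.Opens) (hx : x ∈ U) (a : Γ(X, U)),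
      (ev U (h.mem_open U.2 hx)).hom a ∈ W x := by
    intro x h U hx a
    have h1 : ev U (h.mem_open U.2 hx) = X.presheaf.germ U x hx ≫
        X.presheaf.stalkSpecializes h ≫ X.residue ξ := by
      simp only [ev]
      rw [← Category.assoc, TopCat.Presheaf.germ_stalkSpecializes]
    rw [h1]
    exact (hW x h).1 _
  let R := ultraRing 𝒰 W
  have hspec : ∀ᶠ x in 𝒰, ξ ⤳ x ∧ x ∈ f ⁻¹ᵁ V := by
    filter_upwards [h𝒰] with x hx
    exact ⟨specializes_iff_mem_closure.mpr hx.2, hx.1⟩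
  -- the map from sections over `V` to a valuation ring
  have hρW : ∀ (x : X) (_ : ξ ⤳ x) (_ : x ∈ f ⁻¹ᵁ V) (b : Γ(Y, V)), ρ.hom b ∈ W x := by
    intro x h hx b
    exact hWsec x h (f ⁻¹ᵁ V) hx ((f.app V).hom b)
  have hρR : ∀ b : Γ(Y, V), ρ.hom b ∈ R := by
    intro b
    rw [mem_ultraRing]
    filter_upwards [hspec] with x hx
    exact hρW x hx.1 hx.2 b
  -- the lifting problem
  let αR : Γ(Y, V) ⟶ CommRingCat.of R := CommRingCat.ofHom (ρ.hom.codRestrict R.toSubring hρR)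
  have hαR : αR ≫ CommRingCat.ofHom (algebraMap R κ) = ρ := rfl
  have hsqR : η ≫ f = Spec.map (CommRingCat.ofHom (algebraMap R κ)) ≫
      (Spec.map αR ≫ hV.fromSpec) := by
    rw [← Category.assoc, ← Spec.map_comp, hαR, hρ]
  obtain ⟨l, hl₁, hl₂⟩ := (hf.existence { R := R, K := κ, commSq := ⟨hsqR⟩, .. }).exists_lift
  dsimp only at hl₁ hl₂
  let z : X := l (closedPoint R)
  have hzV : z ∈ f ⁻¹ᵁ V := by
    have h1 : (l ≫ f) (closedPoint R) ∈ V := by
      rw [hl₂]
      exact apply_mem hV _ _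
    exact h1
  have hξz : ξ ⤳ z := by
    have h1 : ξ = (Spec.map (CommRingCat.ofHom (algebraMap R κ)) ≫ l) (closedPoint κ) := by
      rw [hl₁]
      exact (Scheme.fromSpecResidueField_apply ξ (closedPoint κ)).symm
    rw [h1]
    exact (specializes_closedPoint _).map l.continuous
  refine ⟨z, ⟨hzV, specializes_iff_mem_closure.mp hξz⟩, ?_⟩
  -- convergence of the ultrafilter
  rw [Filter.le_def]
  intro N hN
  obtain ⟨N', hN'N, hN'o, hzN'⟩ := mem_nhds_iff.mp hN
  obtain ⟨U, hU, hzU, hUle⟩ := exists_isAffineOpen_mem_and_subset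
    (U := (⟨N', hN'o⟩ : X.Opens) ⊓ f ⁻¹ᵁ V) (x := z) ⟨hzN', hzV⟩
  have hUV : U ≤ f ⁻¹ᵁ V := fun x hx => (hUle hx).2
  have hUN : (U : Set X) ⊆ N := fun x hx => hN'N (hUle hx).1
  refine 𝒰.toFilter.mem_of_superset ?_ hUN
  have hξU : ξ ∈ U := hξz.mem_open U.2 hzU
  -- the sections over `U` lie in `R`
  have hevR : ∀ a : Γ(X, U), (ev U hξU).hom a ∈ R := by
    intro a
    have h1 : Spec.map (X.presheaf.germ U _ hzU ≫ Scheme.stalkClosedPointTo l) ≫ hU.fromSpec = l :=
      factor (R := CommRingCat.of R) l hU hzU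
    have h2 : ev U hξU = (X.presheaf.germ U _ hzU ≫ Scheme.stalkClosedPointTo l) ≫
        CommRingCat.ofHom (algebraMap R κ) := by
      apply hom_eq hU
      rw [hev U hU hξU, Spec.map_comp, Category.assoc, h1, hl₁]
    rw [h2]
    exact SetLike.coe_mem ((X.presheaf.germ U _ hzU ≫ Scheme.stalkClosedPointTo l).hom a)
  -- finitely many generators
  have hft : (f.appLE V U hUV).hom.FiniteType := f.finiteType_appLE hV hU hUV
  algebraize [(f.appLE V U hUV).hom]
  obtain ⟨s, hs⟩ := Algebra.FiniteType.out (R := Γ(Y, V)) (A := Γ(X, U))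
  have hgen : ∀ᶠ x in 𝒰, ∀ a ∈ s, (ev U hξU).hom a ∈ W x :=
    (Finset.eventually_all s).mpr fun a _ => (mem_ultraRing 𝒰 W _).mp (hevR a)
  filter_upwards [hgen, hspec] with x hx hx'
  obtain ⟨hξx, hxV⟩ := hx'
  -- all the sections over `U` lie in `W x`
  have hall : ∀ a : Γ(X, U), (ev U hξU).hom a ∈ W x := by
    intro a
    have ha : a ∈ Algebra.adjoin Γ(Y, V) (s : Set Γ(X, U)) := by rw [hs]; trivial
    induction ha using Algebra.adjoin_induction with
    | mem a ha => exact hx a ha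
    | algebraMap r =>
      have h1 : (ev U hξU).hom (algebraMap Γ(Y, V) Γ(X, U) r) = ρ.hom r := by
        rw [← hρev U hξU hUV]
        rfl
      rw [h1]
      exact hρW x hξx hxV r
    | add a b _ _ ha hb => rw [map_add]; exact (W x).add_mem _ _ ha hb
    | mul a b _ _ ha hb => rw [map_mul]; exact (W x).mul_mem _ _ ha hb
  -- two lifts of the same lifting problem
  let αW : Γ(Y, V) ⟶ CommRingCat.of (W x) :=
    CommRingCat.ofHom (ρ.hom.codRestrict (W x).toSubring (hρW x hξx hxV))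
  have hαW : αW ≫ CommRingCat.ofHom (algebraMap (W x) κ) = ρ := rfl
  have hsqW : η ≫ f = Spec.map (CommRingCat.ofHom (algebraMap (W x) κ)) ≫
      (Spec.map αW ≫ hV.fromSpec) := by
    rw [← Category.assoc, ← Spec.map_comp, hαW, hρ]
  have hmono : Mono (CommRingCat.ofHom (algebraMap (W x) κ)) :=
    ConcreteCategory.mono_of_injective _ Subtype.val_injective
  let β₁ : Γ(X, U) ⟶ CommRingCat.of (W x) :=
    CommRingCat.ofHom ((ev U hξU).hom.codRestrict (W x).toSubring hall)
  have hβ₁ : β₁ ≫ CommRingCat.ofHom (algebraMap (W x) κ) = ev U hξU := rfl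
  let l₁ : Spec (CommRingCat.of (W x)) ⟶ X := Spec.map β₁ ≫ hU.fromSpec
  obtain ⟨hW1, hW2⟩ := hW x hξx
  let β₂ : X.presheaf.stalk x ⟶ CommRingCat.of (W x) :=
    CommRingCat.ofHom ((X.presheaf.stalkSpecializes hξx ≫ X.residue ξ).hom.codRestrict
      (W x).toSubring hW1)
  have hβ₂ : β₂ ≫ CommRingCat.ofHom (algebraMap (W x) κ) =
      X.presheaf.stalkSpecializes hξx ≫ X.residue ξ := rfl
  let l₂ : Spec (CommRingCat.of (W x)) ⟶ X := Spec.map β₂ ≫ X.fromSpecStalk x
  have hl₁' : Spec.map (CommRingCat.ofHom (algebraMap (W x) κ)) ≫ l₁ = η := by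
    simp only [l₁]
    rw [← Category.assoc, ← Spec.map_comp, hβ₁, hev U hU hξU]
  have hl₂' : Spec.map (CommRingCat.ofHom (algebraMap (W x) κ)) ≫ l₂ = η := by
    simp only [l₂]
    rw [← Category.assoc, ← Spec.map_comp, hβ₂, Spec.map_comp, Category.assoc,
      Scheme.SpecMap_stalkSpecializes_fromSpecStalk]
    rfl
  have hl₁f : l₁ ≫ f = Spec.map αW ≫ hV.fromSpec := by
    simp only [l₁]
    rw [Category.assoc, ← hV.SpecMap_appLE_fromSpec f hU hUV, ← Category.assoc, ← Spec.map_comp]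
    congr 2
    rw [← cancel_mono (CommRingCat.ofHom (algebraMap (W x) κ)), Category.assoc, hβ₁, hαW,
      hρev U hξU hUV]
  obtain ⟨U₁, hU₁, hxU₁, hU₁V'⟩ := exists_isAffineOpen_mem_and_subset (U := f ⁻¹ᵁ V) (x := x) hxV
  have hU₁V : U₁ ≤ f ⁻¹ᵁ V := fun x hx => hU₁V' hx
  have hξU₁ : ξ ∈ U₁ := hξx.mem_open U₁.2 hxU₁
  have hl₂f : l₂ ≫ f = Spec.map αW ≫ hV.fromSpec := by
    have h1 : l₂ = Spec.map (X.presheaf.germ U₁ x hxU₁ ≫ β₂) ≫ hU₁.fromSpec := by
      simp only [l₂]
      rw [Spec.map_comp, Category.assoc, ← hU₁.fromSpecStalk_eq_fromSpecStalk hxU₁,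
        IsAffineOpen.fromSpecStalk]
    rw [h1, Category.assoc, ← hV.SpecMap_appLE_fromSpec f hU₁ hU₁V, ← Category.assoc,
      ← Spec.map_comp]
    congr 2
    rw [← cancel_mono (CommRingCat.ofHom (algebraMap (W x) κ)), Category.assoc, Category.assoc,
      hβ₂, hαW, ← hρev U₁ hξU₁ hU₁V]
    congr 1
    simp only [ev]
    rw [← Category.assoc, TopCat.Presheaf.germ_stalkSpecializes]
  have huniq := hf.uniqueness { R := W x, K := κ, commSq := ⟨hsqW⟩, .. }
  have hl : l₁ = l₂ := congrArg CommSq.LiftStruct.l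
    (huniq.elim ⟨l₁, hl₁', hl₁f⟩ ⟨l₂, hl₂', hl₂f⟩)
  -- the centres agree
  have hc₁ : l₁ (closedPoint (W x)) ∈ U := apply_mem hU _ _
  have hc₂ : l₂ (closedPoint (W x)) = x := by
    have h1 : Spec.map β₂ (closedPoint (W x)) = closedPoint (X.presheaf.stalk x) :=
      comap_closedPoint (S := W x)
        ((X.presheaf.stalkSpecializes hξx ≫ X.residue ξ).hom.codRestrict (W x).toSubring hW1)
    change X.fromSpecStalk x (Spec.map β₂ (closedPoint (W x))) = x
    rw [h1, X.fromSpecStalk_closedPoint]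
  rw [hl, hc₂] at hc₁
  exact hc₁

end K979.ValCpt
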